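import Cfsg.Agent.H27.Out
/-! A computable matrix model of the automorphism group of the lattice. -/
namespace H27
noncomputable section
open MulAction Cfsg Finset
attribute [-simp] Fintype.sum_option

def pk (f : Nat → Nat) : Nat := sumN 24 fun q => Nat.shiftLeft (f q) (Nat.mul 16 q)
theorem pk_eq (f : Nat → Nat) : pk f = ∑ q ∈ range 24, 2 ^ (16 * q) * f q := by
  rw [pk, sumN_eq]; exact sum_congr rfl fun q _ => by rw [mul_comm]; exact Nat.shiftLeft_eq _ _
theorem ent_pk {f : Nat → Nat} (hf : ∀ q < 24, f q < 2 ^ 16) {q : Nat} (hq : q < 24) : ent 16 (pk f) q = f q := by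
  suffices ∀ n ≤ 24, ∑ q ∈ range n, 2 ^ (16 * q) * f q < 2 ^ (16 * n) ∧
      ∀ q < n, ent 16 (∑ q ∈ range n, 2 ^ (16 * q) * f q) q = f q by rw [pk_eq]; exact (this 24 le_rfl).2 q hq
  intro n hn
  induction n with
  | zero => simp
  | succ n ih =>
    obtain ⟨a, b⟩ := ih (by omega)
    have c := hf n hn
    rw [sum_range_succ, add_comm]
    refine ⟨?_, fun q hq => Nat.eq_of_testBit_eq fun j => ?_⟩
    · rw [mul_add, pow_add, mul_one]
      calc _ < 2 ^ (16 * n) * (f n + 1) := by rw [mul_add]; omega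
        _ ≤ _ := Nat.mul_le_mul_left _ c
    · rw [testBit_ent, Nat.testBit_two_pow_mul_add _ a]
      rcases Nat.lt_succ_iff_lt_or_eq.1 hq with d | rfl
      · rw [← b q d, testBit_ent]
        by_cases e : j < 16
        · rw [if_pos (by omega)]
        · simp [e]
      · rw [if_neg (by omega), Nat.add_sub_cancel_left]
        by_cases e : j < 16
        · simp [e]
        · simp [e, Nat.testBit_lt_two_pow (c.trans_le (Nat.pow_le_pow_right two_pos (not_lt.1 e)))]
theorem pk_congr {f g : Nat → Nat} (h : ∀ q < 24, f q = g q) : pk f = pk g := by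
  rw [pk_eq, pk_eq]; exact sum_congr rfl fun q hq => by rw [h q (mem_range.1 hq)]
/-- the code of a vector with small coordinates -/
def pv (x : VV) : Nat := pk fun q => (x (GE.e q) + 8).toNat
def Bnd (x : VV) : Prop := ∀ i, -8 ≤ x i ∧ x i ≤ 8
theorem bnd_of {x : VV} (h : sqNorm x ≤ 64) : Bnd x := abs_le_of_sqNorm (by norm_num) (by omega)
theorem Bnd.ent {x : VV} (h : Bnd x) {q : Nat} (hq : q < 24) : ent 16 (pv x) q = (x (GE.e q) + 8).toNat :=
  ent_pk (fun q _ => by have := h (GE.e q); omega) hq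
theorem Bnd.inj {x y : VV} (h : Bnd x) (h' : Bnd y) (e : pv x = pv y) : x = y := funext fun i => by
  have a := h.ent (GE.ix_lt i)
  rw [e, h'.ent (GE.ix_lt i), GE.e_ix] at a
  have := h i; have := h' i; omega
theorem Bnd.cast {x : VV} (h : Bnd x) : (pv x : ℤ) = ∑ q ∈ range 24, 2 ^ (16 * q) * (x (GE.e q) + 8) := by
  rw [pv, pk_eq]; push_cast
  exact sum_congr rfl fun q _ => by rw [Int.toNat_of_nonneg (by have := h (GE.e q); omega)]
def O1 : Nat := 0x100010001000100010001000100010001000100010001000100010001000100010001000100010001000100010001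
def O8 : Nat := 0x800080008000800080008000800080008000800080008000800080008000800080008000800080008000800080008
def O16 : Nat := 0x1000100010001000100010001000100010001000100010001000100010001000100010001000100010001000100010
theorem O1_eq : (O1 : ℤ) = ∑ q ∈ range 24, 2 ^ (16 * q) := by decide +kernel
theorem Bnd.neg {x : VV} (h : Bnd x) : Bnd (-x) := fun i => by have := h i; rw [Pi.neg_apply]; omega
theorem Bnd.pv_add_neg {x : VV} (h : Bnd x) : pv x + pv (-x) = O16 := by
  zify; rw [h.cast, h.neg.cast, show (O16 : ℤ) = 16 * O1 from rfl, O1_eq, mul_sum, ← sum_add_distrib]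
  exact sum_congr rfl fun q _ => by rw [Pi.neg_apply]; ring
theorem Bnd.pv_neg {x : VV} (h : Bnd x) : pv (-x) = Nat.sub O16 (pv x) := by
  have := h.pv_add_neg; rw [Nat.sub_eq]; omega

def mvS (A : List Nat) : Nat → Nat :=
  List.rec (motive := fun _ => Nat → Nat) (fun _ => 0) (fun a _ ih X => force (Nat.land X 65535) fun x =>
    force (Nat.shiftRight X 16) fun Y => Nat.add (Nat.add (Nat.mul x a) (Nat.mul (Nat.sub 16 x) (Nat.sub O16 a))) (ih Y)) A
theorem mvS_eq (A : List Nat) (X : Nat) : mvS A X =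
    ∑ j ∈ range A.length, (ent 16 X j * A.getD j 0 + (16 - ent 16 X j) * (O16 - A.getD j 0)) := by
  induction A generalizing X with
  | nil => rfl
  | cons a A ih =>
    have : ∀ j, ent 16 X (j + 1) = ent 16 (X >>> 16) j := fun j => by
      simp only [ent, Nat.shiftRight_eq, Nat.mul_eq, ← Nat.shiftRight_add]; rw [mul_add, add_comm]
    rw [List.length_cons, sum_range_succ', add_comm]
    simp only [this, List.getD_cons_succ, ← ih]
    rw [show mvS (a :: A) X = force (Nat.land X 65535) fun x => force (Nat.shiftRight X 16) fun Y => Nat.add (Nat.add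
      (Nat.mul x a) (Nat.mul (Nat.sub 16 x) (Nat.sub O16 a))) (mvS A Y) from rfl, force_eq, force_eq]; rfl
/-- matrix (list of columns) times vector -/
def mv (A : List Nat) (X : Nat) : Nat := Nat.shiftRight (Nat.sub (mvS A X) 0xb800b800b800b800b800b800b800b800b800b800b800b800b800b800b800b800b800b800b800b800b800b800b800b80) 4
def r24 : List Nat := [0, 1, 2, 3, 4, 5, 6, 7, 8, 9, 10, 11, 12, 13, 14, 15, 16, 17, 18, 19, 20, 21, 22, 23]
theorem r24_eq : r24 = List.range 24 := by decide
/-- the matrix of an automorphism -/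
def mat (g : CC) : List Nat := r24.map fun j => pv (g • e8 (GE.e j) : LL)
theorem bnd_col (g : CC) (i : GolayPt) : Bnd (g • e8 i : LL) := bnd_of ((co_norm _ _).trans (e8_norm i)).le
theorem mat_getD (g : CC) {j : Nat} (hj : j < 24) : (mat g).getD j 0 = pv (g • e8 (GE.e j) : LL) := by
  rw [mat, r24_eq, List.getD_eq_getElem _ _ (by simpa using hj)]; simp
theorem mv_mat (g : CC) {x : LL} (hx : sqNorm (x : VV) ≤ 64) : mv (mat g) (pv x) = pv (g • x : LL) := by
  have a := bnd_of hx
  have b : Bnd (g • x : LL) := bnd_of ((co_norm _ _).trans_le hx)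
  suffices mvS (mat g) (pv x) = 16 * pv (g • x : LL) + 2944 * O1 by
    rw [mv, this]
    change (_ + 2944 * O1 - 2944 * O1) >>> 4 = _
    rw [Nat.add_sub_cancel, Nat.shiftRight_eq_div_pow, Nat.mul_div_cancel_left _ (by norm_num)]
  rw [mvS_eq, show (mat g).length = 24 from rfl, sum_congr rfl (g := fun j => ((x : VV) (GE.e j) + 8).toNat *
    pv (g • e8 (GE.e j) : LL) + (8 - (x : VV) (GE.e j)).toNat * pv (-(g • e8 (GE.e j) : LL))) fun j hj => by
      have := a (GE.e j)
      rw [mat_getD g (mem_range.1 hj), a.ent (mem_range.1 hj), (bnd_col _ _).pv_neg, Nat.sub_eq]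
      congr 2; omega]
  zify
  rw [b.cast, O1_eq, mul_sum, mul_sum, ← sum_add_distrib, sum_congr rfl (g := fun j => ∑ q ∈ range 24, 2 ^ (16 * q) *
    (2 * ((x : VV) (GE.e j) * ((g • e8 (GE.e j) : LL) : VV) (GE.e q)) + 128)) fun j _ => by
      have := a (GE.e j)
      rw [(bnd_col _ _).cast, (bnd_col _ _).neg.cast, Int.toNat_of_nonneg (by omega), Int.toNat_of_nonneg (by omega),
        mul_sum, mul_sum, ← sum_add_distrib]
      exact sum_congr rfl fun q _ => by rw [Pi.neg_apply]; ring, sum_comm]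
  refine sum_congr rfl fun q _ => ?_
  have := co_eight g x (GE.e q)
  rw [← sum_gix, ← mul_sum, sum_add_distrib, ← mul_sum, sum_const_pt]
  simp only [show ∀ p, GE.e (gix p) = p from GE.e_ix]
  rw [← this]; ring
def mmul (A B : List Nat) : List Nat := mapL (mv A) B
theorem mat_mul (g h : CC) : mat (g * h) = mmul (mat g) (mat h) := by
  rw [mmul, mapL_eq]
  exact (List.map_congr_left fun j _ => by
    rw [Function.comp, mv_mat g ((co_norm _ _).trans (e8_norm _)).le, mul_smul]).trans List.map_map.symm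
theorem mat_inj {g h : CC} (e : mat g = mat h) : g = h := co_ext8 (GE.forall_iff.2 fun j hj => Subtype.ext
  ((bnd_col _ _).inj (bnd_col _ _) (by rw [← mat_getD g hj, e, mat_getD h hj])))
def leq (A : List Nat) : List Nat → Bool :=
  List.rec (motive := fun _ => List Nat → Bool) (fun B => List.rec true (fun _ _ _ => false) B)
    (fun a _ ih B => List.rec false (fun b t _ => and' (Nat.beq a b) (ih t)) B) A
theorem leq_iff {A B : List Nat} : leq A B = true ↔ A = B := by
  induction A generalizing B with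
  | nil => cases B <;> simp [leq]
  | cons a A ih => cases B with
    | nil => simp [leq]
    | cons b B =>
      change and' _ (leq A B) = true ↔ _
      simp [ih]
def cmM (M : Nat) : List Nat := mapL (fun j => pk fun q => ent 5 (rc M q) j) r24
theorem mat_cm {M : Nat} (h : cochk M = true) : mat (cm M) = cmM M := by
  rw [cmM, mapL_eq]
  refine List.map_congr_left fun j hj => pk_congr fun q hq => ?_
  have a := cm_mv h (e8 (GE.e j)) (GE.e q)
  rw [e8, dot_single, rw', vc, show gix (GE.e q) = q from GE.ix_e q hq,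
    show gix (GE.e j) = j from GE.ix_e j (by simpa [r24_eq] using hj)] at a
  change _ = 8 * ((cm M • e8 (GE.e j) : LL) : VV) _ at a
  omega
theorem map_mat_cm {Ms : List Nat} (h : allL Ms cochk = true) : (Ms.map cm).map mat = mapL cmM Ms := by
  rw [mapL_eq, List.map_map]; exact List.map_congr_left fun M hM => mat_cm ((allL_iff _ _).1 h M hM)
def e8c (k : Nat) : Nat := Nat.add O8 (Nat.shiftLeft 8 (Nat.mul 16 k))
def e8n (k : Nat) : Nat := Nat.sub O8 (Nat.shiftLeft 8 (Nat.mul 16 k))
theorem pv_e8 : ∀ k < 24, pv (e8 (GE.e k)) = e8c k ∧ pv (-e8 (GE.e k) : LL) = e8n k := by decide +kernel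
def monoF (f : Nat → Nat) (x : Nat) : List Nat := mapL (fun j => force (f j) fun k => ite' (tb x k) (e8n k) (e8c k)) r24
theorem mat_mono {σ : MM} {f : Nat → Nat} (h : ∀ j < 24, f j < 24 ∧ σ • GE.e j = GE.e (f j)) {c : GC} {x : Nat}
    (hc : (c : Finset GolayPt) = GE.fs x) : mat (mono σ c) = monoF f x := by
  rw [monoF, mapL_eq]
  refine List.map_congr_left fun j hj => ?_
  obtain ⟨a, b⟩ := h j (by simpa [r24_eq] using hj)
  rw [force_eq, mono_e8, b, hc, ite'_eq, tb_eq]
  simp only [GE.e_mem_fs a]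
  split_ifs
  exacts [(pv_e8 _ a).2, (pv_e8 _ a).1]
theorem Acts.mat_pm {σ : MM} {P : Net} (a : Acts 24 GE.e σ P) : mat (pm σ) = monoF P.fn 0 :=
  mat_mono (fun j hj => ⟨Net.fn_lt a.ok hj, a.act j hj⟩) GE.fs_zero.symm
def mI : List Nat := monoF (fun j => j) 0
theorem mat_one : mat 1 = mI := by
  rw [← mono_one]; exact mat_mono (fun j hj => ⟨hj, one_smul _ _⟩) GE.fs_zero.symm
def mneg (A : List Nat) : List Nat := mapL (Nat.sub O16) A
theorem mat_neg (g : CC) : mat (neg1 * g) = mneg (mat g) := by
  rw [mneg, mapL_eq, mat, mat, List.map_map]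
  exact List.map_congr_left fun j _ => by
    rw [Function.comp, ← (bnd_col _ _).pv_neg, mul_smul, neg1_smul, AddSubgroup.coe_neg]
def mtr (A : List Nat) : List Nat := mapL (fun j => pk fun q => ent 16 (nth 0 A q) j) r24
theorem mat_inv (g : CC) : mat g⁻¹ = mtr (mat g) := by
  rw [mtr, mapL_eq]
  refine List.map_congr_left fun j hj => pk_congr fun q hq => ?_
  have a := co_dot g (g⁻¹ • e8 (GE.e j)) (e8 (GE.e q))
  rw [smul_inv_smul, dot_comm] at a
  rw [nth_eq, mat_getD g hq, (bnd_col _ _).ent (by simpa [r24_eq] using hj)]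
  simp only [e8, dot_single] at a ⊢
  omega
theorem nth_mat (gs : List CC) (i : Nat) : nth mI (gs.map mat) i = mat (gs.getD i 1) := by
  rw [nth_eq, ← mat_one, List.getD_map]

/-- straight-line programs; the second index `9999` asks for the inverse -/
def mslp {α : Type} (S : List (Nat × Nat)) (k : List (List Nat) → α) : List (List Nat) → α :=
  List.rec (motive := fun _ => List (List Nat) → α) k (fun s _ ih Ms => forceL (nth mI Ms s.1) fun A =>
    forceL (ite' (Nat.beq s.2 9999) (mtr A) (mmul A (nth mI Ms s.2))) fun M => ih (M :: Ms)) S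
theorem mslp_spec {α : Type} (S : List (Nat × Nat)) (k : List (List Nat) → α) {H : Subgroup CC} {gs : List CC}
    (h : ∀ g ∈ gs, g ∈ H) : ∃ ks : List CC, (∀ g ∈ ks, g ∈ H) ∧ mslp S k (gs.map mat) = k (ks.map mat) := by
  induction S generalizing gs with
  | nil => exact ⟨gs, h, rfl⟩
  | cons s S ih =>
    have a : ∀ i, gs.getD i 1 ∈ H := fun i => by simpa [wordG] using wordG_prod_mem h [i]
    change ∃ ks : List CC, _ ∧ forceL _ (fun A => forceL _ fun M => mslp S k (M :: _)) = _
    rw [forceL_eq, forceL_eq, nth_mat, nth_mat, ← mat_mul, ← mat_inv, ite'_eq, ← apply_ite mat, ← List.map_cons]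
    exact ih (List.forall_mem_cons.2 ⟨by split_ifs; exacts [H.inv_mem (a _), H.mul_mem (a _) (a _)], h⟩)
def forceLL {α : Type} (l : List (List Nat)) : (List (List Nat) → α) → α :=
  List.rec (motive := fun _ => (List (List Nat) → α) → α) (fun k => k [])
    (fun a _ ih k => forceL a fun b => ih fun t => k (b :: t)) l
theorem forceLL_eq {α : Type} (l : List (List Nat)) (k : List (List Nat) → α) : forceLL l k = k l := by
  induction l generalizing k with
  | nil => rfl
  | cons a l ih => exact (forceL_eq a _).trans (ih _)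
def mgenChk (S : List (Nat × Nat)) (U : List Nat) (Gs Ts : List (List Nat)) : Bool :=
  forceL U fun U => forceLL Gs (mslp S fun Ms => allN Ts.length fun i => forceL (nth mI Ts i) fun T =>
    leq (mmul U (nth mI Ms i)) (mmul T U))
theorem mem_of_mgen (S : List (Nat × Nat)) {u : CC} {gs ts : List CC}
    (hc : mgenChk S (mat u) (gs.map mat) (ts.map mat) = true) : ∀ t ∈ ts, u⁻¹ * t * u ∈ cl gs := by
  intro t ht
  obtain ⟨ks, a, b⟩ := mslp_spec S (fun Ms => allN (ts.map mat).length fun i => forceL (nth mI (ts.map mat) i) fun T =>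
    leq (mmul (mat u) (nth mI Ms i)) (mmul T (mat u))) (H := cl gs) fun _ => mem_cl
  rw [mgenChk, forceL_eq, forceLL_eq, b, allN_iff] at hc
  obtain ⟨i, hi, rfl⟩ := List.getElem_of_mem ht
  have c := hc i (by simpa using hi)
  rw [forceL_eq, nth_mat, nth_mat, ← mat_mul, ← mat_mul, leq_iff, List.getD_eq_getElem _ _ hi] at c
  rw [mul_assoc, ← mat_inj c, inv_mul_cancel_left]
  simpa [wordG] using wordG_prod_mem a [i]

/-! ### words -/
def evV (Ms : List (List Nat)) (w : List Nat) (X : Nat) : Nat :=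
  List.rec (motive := fun _ => Nat) X (fun i _ ih => force ih (mv (nth mI Ms i))) w
def evP (Ms : List (List Nat)) (r : List Nat × Nat) (X : Nat) : Nat :=
  Nat.rec (motive := fun _ => Nat) X (fun _ ih => force ih (evV Ms r.1)) r.2
theorem evV_mat (gs : List CC) (w : List Nat) {x : LL} (hx : sqNorm (x : VV) ≤ 64) :
    evV (gs.map mat) w (pv x) = pv ((wordG gs w).prod • x : LL) := by
  induction w with
  | nil => simp [evV, wordG]
  | cons i w ih =>
    change force (evV _ w _) _ = _
    rw [force_eq, ih, nth_mat, mv_mat _ ((co_norm _ _).trans_le hx), ← mul_smul]; rfl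
theorem evP_mat (gs : List CC) (r : List Nat × Nat) {x : LL} (hx : sqNorm (x : VV) ≤ 64) :
    evP (gs.map mat) r (pv x) = pv ((wordG gs r.1).prod ^ r.2 • x : LL) := by
  obtain ⟨w, o⟩ := r
  induction o with
  | zero => simp [evP]
  | succ o ih =>
    change force (evP _ (w, o) _) _ = _
    rw [force_eq, ih, evV_mat _ _ ((co_norm _ _).trans_le hx), ← mul_smul, pow_succ']
/-- plus or minus the identity -/
def PM1 (g : CC) : Prop := g = 1 ∨ g = neg1
def relT (Ms : List (List Nat)) (r : List Nat × Nat) : Bool :=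
  forceL (mapL (evP Ms r) mI) fun A => or' (leq A mI) (leq A (mneg mI))
theorem relT_spec {gs : List CC} {r : List Nat × Nat} (h : relT (gs.map mat) r = true) :
    PM1 ((wordG gs r.1).prod ^ r.2) := by
  have : mapL (evP (gs.map mat) r) mI = mat ((wordG gs r.1).prod ^ r.2) := by
    rw [← mat_one, mapL_eq, mat, List.map_map]
    exact List.map_congr_left fun j _ => by rw [Function.comp, one_smul, evP_mat _ _ (e8_norm _).le]
  rw [relT, forceL_eq, this, ← mat_one, ← mat_neg, or'_eq, Bool.or_eq_true, leq_iff, leq_iff, mul_one] at h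
  exact h.imp mat_inj mat_inj
def relF (Ms : List (List Nat)) (r : List Nat × Nat) : Bool :=
  force (evP Ms r (e8c 0)) fun Y => not' (or' (Nat.beq Y (e8c 0)) (Nat.beq Y (e8n 0)))
theorem relF_spec {gs : List CC} {r : List Nat × Nat} (h : relF (gs.map mat) r = true) :
    ¬ PM1 ((wordG gs r.1).prod ^ r.2) := by
  obtain ⟨a, b⟩ := pv_e8 0 (by norm_num)
  rw [relF, force_eq, ← a, ← b, evP_mat _ _ (e8_norm _).le] at h
  rintro (c | c) <;> rw [c] at h <;> simp [neg1_smul] at h

/-- lattice membership of a code -/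
def inL16 (Y : Nat) : Bool := force (Nat.land Y 1) fun m => and' (allN 24 fun p => Nat.beq (Nat.mod (ent 16 Y p) 2) m)
  (and' (inC (maskOf 24 fun p => tb (ent 16 Y p) 1)) (Nat.beq (Nat.mod (sumN 24 (ent 16 Y)) 8) (Nat.mul 4 m)))
theorem inL16_pv {x : LL} (hx : Bnd x) : inL16 (pv x) = true := by
  obtain ⟨m, c, h⟩ := mem_LL.1 x.2
  have hm := h.m01
  have a : ∀ p < 24, (ent 16 (pv x) p : ℤ) = (x : VV) (GE.e p) + 8 := fun p hp => by
    have := hx (GE.e p); rw [hx.ent hp]; omega
  have b : ∀ p < 24, (ent 16 (pv x) p % 2 : ℕ) = m := fun p hp => by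
    have := a p hp; have := h.md (GE.e p); omega
  have d : (Nat.land (pv x) 1 : ℕ) = m := by
    rw [← b 0 (by norm_num), show Nat.land (pv x) 1 = _ from Nat.and_one_is_mod _]
    have : ent 16 (pv x) 0 = pv x % 2 ^ 16 := Nat.and_two_pow_sub_one_eq_mod _ 16
    omega
  simp only [inL16, force_eq, and'_eq, Bool.and_eq_true, allN_iff, beq_iff]
  refine ⟨fun p hp => by have := b p hp; change _ % 2 = _; omega, ?_, ?_⟩
  · rw [← fs_mem_GC (Nat.lt_pow_two_of_testBit _ fun i hi => Bool.eq_false_iff.2 fun e =>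
      absurd ((testBit_maskOf _ _ _).1 e).1 (by omega))]
    convert h.gc
    ext p
    have u := a _ (GE.ix_lt p)
    have v := h.md p
    rw [GE.e_ix] at u
    rw [GE.mem_fs, testBit_maskOf, and_iff_right (GE.ix_lt p), tb_eq, Nat.testBit_eq_decide_div_mod_eq, decide_eq_true_iff]
    rcases ind01 c p with ⟨w, z⟩ | ⟨w, z⟩ <;> simp only [w, iff_true, iff_false] <;> omega
  · have u := h.sm
    have v : ((∑ p ∈ range 24, ent 16 (pv x) p : ℕ) : ℤ) = ∑ i, (x : VV) i + 192 := by
      rw [Nat.cast_sum, sum_congr rfl fun p hp => a p (mem_range.1 hp), ← sum_gix fun p => (x : VV) (GE.e p) + 8,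
        sum_add_distrib, sum_const_pt]
      simp only [show ∀ p, GE.e (gix p) = p from GE.e_ix]; rfl
    rw [sumN_eq, Nat.mul_eq, show ∀ a, Nat.mod a 8 = a % 8 from fun _ => rfl]
    omega

end
end H27
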