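import Cfsg.Agent.H27.MCls
/-! Further helpers: restriction to invariant sets, pointwise stabilisers, small tables. -/
namespace H27
noncomputable section
open MulAction Cfsg
open scoped Pointwise

section gen
variable {G Ω : Type*} [Group G] [MulAction G Ω]
theorem CjRel.fixing (g : G) (s : Set Ω) : CjRel g (fixingSubgroup G s) (fixingSubgroup G (g • s)) := fun a => by
  simp only [mem_fixingSubgroup_iff]
  exact ⟨by rintro h _ ⟨y, hy, rfl⟩; exact (fixed_conj g a y).2 (h y hy), fun h y hy => (fixed_conj g a y).1 (h _ ⟨y, hy, rfl⟩)⟩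
theorem CjRel.faith {g : G} {A B : Subgroup G} (R : CjRel g A B) {P : Ω → Prop}
    (h : ∀ a ∈ A, (∀ p, P (g • p) → a • p = p) → a = 1) : ∀ b ∈ B, (∀ p, P p → b • p = p) → b = 1 := fun b hb c => by
  have := h _ ((R.symm b).1 hb) fun p hp => by rw [inv_inv, mul_smul, mul_smul, c _ hp, inv_smul_smul]
  rwa [conj_eq_one_iff] at this
theorem CjRel.le {g : G} {A B C D : Subgroup G} (R : CjRel g A B) (S : CjRel g C D) (h : A ≤ C) : B ≤ D := fun b hb => by
  simpa [mul_assoc] using (S _).1 (h ((R.symm b).1 hb))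
theorem CjRel.eq {g : G} {A B D : Subgroup G} (R : CjRel g A B) (S : CjRel g A D) : B = D := by rw [R.eq_map, S.eq_map]
theorem CjRel.sup {g : G} {A B C D : Subgroup G} (R : CjRel g A B) (S : CjRel g C D) : CjRel g (A ⊔ C) (B ⊔ D) := by
  rw [R.eq_map, S.eq_map, ← Subgroup.map_sup]; exact CjRel.of_map _ _
theorem CjRel.bot (g : G) : CjRel g ⊥ ⊥ := fun a => by simp
theorem CjRel.normalizer {g : G} {A B : Subgroup G} (R : CjRel g A B) :
    CjRel g (Subgroup.normalizer (A : Set G)) (Subgroup.normalizer (B : Set G)) := by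
  rw [R.eq_map, ← Subgroup.map_equiv_normalizer_eq A (MulAut.conj g)]; exact CjRel.of_map _ _
theorem CjRel.cent {g : G} {A B : Subgroup G} (R : CjRel g A B) :
    CjRel g (Subgroup.centralizer (A : Set G)) (Subgroup.centralizer (B : Set G)) := fun a => by
  simp only [Subgroup.mem_centralizer_iff, SetLike.mem_coe]
  constructor
  · intro h b hb
    have := h _ ((R.symm b).1 hb)
    rw [show b * (g * a * g⁻¹) = g * (g⁻¹ * b * g⁻¹⁻¹ * a) * g⁻¹ by group, this]; group
  · intro h b hb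
    have := h _ ((R b).1 hb)
    rw [show b * a = g⁻¹ * (g * b * g⁻¹ * (g * a * g⁻¹)) * g by group, this]; group
theorem CjRel.zpowers (g x : G) : CjRel g (Subgroup.zpowers x) (Subgroup.zpowers (g * x * g⁻¹)) := by
  have := CjRel.of_map g (Subgroup.zpowers x)
  rwa [MonoidHom.map_zpowers] at this

variable [DecidableEq Ω]
/-- restriction of the setwise stabiliser to the set -/
def resHom (G : Type*) [Group G] [MulAction G Ω] (s : Finset Ω) : stabilizer G s →* Equiv.Perm s :=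
  MonoidHom.mk' (fun g => (toPerm (g : G)).subtypePerm fun x => by
    have := Finset.smul_mem_smul_finset_iff (s := s) (b := x) (g : G)
    rwa [mem_stabilizer_iff.1 g.2] at this) fun a b => by ext x; exact mul_smul _ _ _
theorem resHom_apply (s : Finset Ω) (g : stabilizer G s) (p : s) : ((resHom G s g p : s) : Ω) = (g : G) • (p : Ω) := rfl
theorem mem_ker_resHom {s : Finset Ω} {g : stabilizer G s} : g ∈ (resHom G s).ker ↔ ∀ p ∈ s, (g : G) • p = p :=
  ⟨fun h p hp => by rw [← resHom_apply s g ⟨p, hp⟩, MonoidHom.mem_ker.1 h]; rfl,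
    fun h => by rw [MonoidHom.mem_ker]; ext p; exact h p p.2⟩
theorem mem_stab_of_fix {s : Finset Ω} {g : G} (h : ∀ p ∈ s, g • p = p) : g ∈ stabilizer G s :=
  Finset.eq_of_subset_of_card_le (fun q hq => by
    obtain ⟨q, hq', rfl⟩ := Finset.mem_smul_finset.1 hq
    rwa [h q hq']) (Finset.card_smul_finset g s).ge
theorem card_ker_resHom (s : Finset Ω) : Nat.card (resHom G s).ker = Nat.card (fixingSubgroup G (s : Set Ω)) :=
  Nat.card_congr ⟨fun g => ⟨g.1.1, (mem_fixingSubgroup_iff G).2 (mem_ker_resHom.1 g.2)⟩,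
    fun g => ⟨⟨g.1, mem_stab_of_fix ((mem_fixingSubgroup_iff G).1 g.2)⟩, mem_ker_resHom.2 ((mem_fixingSubgroup_iff G).1 g.2)⟩,
    fun _ => rfl, fun _ => rfl⟩
theorem card_stab_eq (s : Finset Ω) :
    Nat.card (stabilizer G s) = Nat.card (fixingSubgroup G (s : Set Ω)) * Nat.card (resHom G s).range := by
  rw [card_eq_ker_mul (resHom G s), card_ker_resHom]
theorem resHom_surj {s : Finset Ω} {c : Nat} (h0 : 0 < c) (h1 : Nat.card (fixingSubgroup G (s : Set Ω)) = c)
    (h2 : Nat.card (stabilizer G s) = c * s.card.factorial) (e : Equiv.Perm s) :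
    ∃ g ∈ stabilizer G s, ∀ t : s, g • (t : Ω) = e t := by
  rw [card_stab_eq, h1] at h2
  have : (resHom G s).range = ⊤ := Subgroup.eq_top_of_le_card _ (by
    rw [Nat.eq_of_mul_eq_mul_left h0 h2, Nat.card_perm, Nat.card_eq_fintype_card, Fintype.card_coe])
  obtain ⟨g, rfl⟩ : e ∈ (resHom G s).range := this ▸ trivial
  exact ⟨g, g.2, fun _ => rfl⟩
omit [DecidableEq Ω] in
theorem mem_alt_of_pow {α : Type*} [Fintype α] [DecidableEq α] {g : Equiv.Perm α} {p : Nat} (hp : Odd p) (h : g ^ p = 1) :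
    g ∈ alternatingGroup α := by
  have := congrArg Equiv.Perm.sign h
  rwa [map_pow, map_one, Int.units_pow_eq_pow_mod_two, Nat.odd_iff.1 hp, pow_one] at this
/-- transport of a normal subgroup along an isomorphism -/
theorem exists_normal_of_equiv {A B X : Type*} [Group A] [Group B] [Group X] (e : A ≃* B) {c p : Nat}
    (h : ∃ (N : Subgroup A) (_ : N.Normal), Nat.card N = c ∧ (∀ x ∈ N, x ^ p = 1) ∧ Nonempty (A ⧸ N ≃* X)) :
    ∃ (N : Subgroup B) (_ : N.Normal), Nat.card N = c ∧ (∀ x ∈ N, x ^ p = 1) ∧ Nonempty (B ⧸ N ≃* X) := by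
  obtain ⟨N, hN, a, b, ⟨f⟩⟩ := h
  have := hN.map e.toMonoidHom e.surjective
  refine ⟨N.map e.toMonoidHom, this, a ▸ (Nat.card_congr (e.subgroupMap N).toEquiv).symm, ?_,
    ⟨(@QuotientGroup.congr _ _ _ _ N (N.map e.toMonoidHom) hN this e rfl).symm.trans f⟩⟩
  rintro _ ⟨x, hx, rfl⟩
  rw [← map_pow, b x hx, map_one]
theorem normal_subgroupOf_of_le {H K : Subgroup G} (h : H ≤ Subgroup.normalizer (K : Set G)) : (K.subgroupOf H).Normal :=
  ⟨fun x hx g => (Subgroup.mem_normalizer_iff.1 (h g.2) x).1 hx⟩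
end gen

theorem fixing_gfs (x : Nat) : fixingSubgroup MM (GE.fs x : Set GolayPt) = fixM x := by
  ext g; rw [mem_fixingSubgroup_iff]; rfl
theorem CjRel.fixF (g : MM) (s : Finset GolayPt) :
    CjRel g (fixingSubgroup MM (s : Set GolayPt)) (fixingSubgroup MM ((g • s : Finset GolayPt) : Set GolayPt)) := by
  rw [Finset.coe_smul_finset]; exact CjRel.fixing g _
theorem card_fixing_octad {o : Finset GolayPt} (ho : o ∈ octads) : Nat.card (fixingSubgroup MM (o : Set GolayPt)) = 16 := by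
  obtain ⟨g, rfl⟩ := exists_smul_eO ho
  rw [(CjRel.fixF g _).card, eO_zero, fixing_gfs, card_fix_oct0]
theorem card_sub (L : Subgroup (Equiv.Perm GolayPt)) : Nat.card ↥(M24 ⊓ L) = Nat.card (L.subgroupOf M24) :=
  (Nat.card_congr (subOfEquiv M24 L).toEquiv).symm
theorem map_sub (L : Subgroup (Equiv.Perm GolayPt)) : M24 ⊓ L = (L.subgroupOf M24).map M24.subtype := by
  rw [Subgroup.subgroupOf_map_subtype, inf_comm]
/-- the points of a set as a table -/
theorem closed_of_stab {x m : Nat} {l : List Nat}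
    (h : and' (Nat.beq (orL l) x) (and' (Nat.beq l.length m) (allL l fun i => Nat.ble (Nat.succ i) 24)) = true)
    {g : MM} (hg : g ∈ stabilizer MM (GE.fs x)) : ∀ i < m, ∃ j < m, g • subT GE.e l i = subT GE.e l j := by
  simp only [and'_eq, Bool.and_eq_true, beq_iff, allL_iff, Nat.ble_eq] at h
  obtain ⟨rfl, rfl, c⟩ := h
  intro i hi
  have a : l[i] ∈ l := List.getElem_mem hi
  have b : g • GE.e l[i] ∈ GE.fs (orL l) := by
    rw [← mem_stabilizer_iff.1 hg, Finset.smul_mem_smul_finset_iff, GE.e_mem_fs (c _ a), testBit_orL]; exact a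
  rw [GE.mem_fs, testBit_orL] at b
  obtain ⟨t, ht, u⟩ := List.getElem_of_mem b
  refine ⟨t, ht, ?_⟩
  rw [subT, subT, nth_eq, nth_eq, List.getD_eq_getElem _ _ hi, List.getD_eq_getElem _ _ ht, u, GE.e_ix]
theorem subT_mem {x m : Nat} {l : List Nat}
    (h : allN m (fun i => and' (Nat.ble (Nat.succ (nth 0 l i)) 24) (tb x (nth 0 l i))) = true) :
    ∀ i < m, subT GE.e l i ∈ GE.fs x := fun i hi => by
  have := (allN_iff _ _).1 h i hi
  simp only [and'_eq, Bool.and_eq_true, Nat.ble_eq] at this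
  exact (e_mem_gfs this.1).2 this.2
theorem stab3_eq : H12 ⊓ stabilizer MM (GE.e 0) ⊓ stabilizer MM (GE.e 1) ⊓ stabilizer MM (GE.e 2) = H12 ⊓ fixM 0x7 := by
  rw [← fixM_two_pow (by norm_num), inf_assoc, inf_assoc, ← inf_assoc (fixM _), fixM_inf (by norm_num),
    fixM_inf (by norm_num)]; rfl
theorem card_fix_hex0 : Nat.card (fixM 0x80001f) = 3 := by
  rw [show 0x80001f = 0x80000f ||| 2 ^ 4 from rfl, ← fixM_inf (by norm_num)]
  exact (sg_drop 5).card_inf_stab (k := 2) (X := oct0 ^^^ (2 ^ 24 - 1)) (d := 5) (m := 16) sg_level5.1 GE.injOn (by norm_num)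
    (by norm_num) (by decide +kernel) (by norm_num) sg_level5.2
theorem eO_stab {gs : List MM} {Ns : List Net} (a : ActsL 24 GE.e gs Ns) {i : Nat} (hi : i < 759)
    (h : invChk Ns (oM i) = true) : ∀ g ∈ gs, g ∈ stabilizer MM (eO i) := eO_eq hi ▸ a.stab_gfs h
theorem not_mem_eD0 {p : GolayPt} : p ∉ eD 0 ↔ p ∈ mset 24 GE.e (dod0 ^^^ (2 ^ 24 - 1)) := by
  rw [GE.mset_eq_fs, GE.fs_compl, ← eD_zero, Finset.mem_coe, Finset.mem_compl]
def sCN : List Net := [(.cons 1 0x454514 (.cons 2 0x311022 (.cons 4 0x40e0e (.cons 8 0x4b (.cons 16 0x59 (.cons 8 0x9 (.cons 2 0x11300 (.cons 1 0x10050 .nil)))))))),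
  (.cons 1 0x400550 (.cons 2 0x301220 (.cons 4 0x40706 (.cons 8 0xd1 (.cons 16 0xed (.cons 8 0x2d (.cons 4 0x20000 (.cons 2 0x303020 (.cons 1 0x450400 .nil))))))))),
  (.cons 1 0x441504 (.cons 2 0x213102 (.cons 4 0x3090c (.cons 8 0xe7 (.cons 16 0xb9 (.cons 8 0xa1 (.cons 4 0x90900 (.cons 2 0x233110 (.cons 1 0x504140 .nil))))))))),
  (.cons 1 0x114000 (.cons 2 0x10100 (.cons 4 0xd0c04 (.cons 8 0xd5 (.cons 16 0x87 (.cons 8 0x87 (.cons 4 0x90400 (.cons 2 0x10100 (.cons 1 0x15000 .nil))))))))),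
  (.cons 1 0x155400 (.cons 2 0x310000 (.cons 4 0x50004 (.cons 8 0x82 (.cons 16 0x8a (.cons 8 0x82 (.cons 2 0x200000 (.cons 1 0x154000 .nil))))))))]
theorem sC_acts : ActsL 24 GE.e (sCN.map mm) sCN := actsL_mm (by decide +kernel)
/-- `M11` is 3-transitive on the complementary dodecad -/
theorem exists_smul_dod_out {d : Finset GolayPt} (hd : d ∈ dodecads) {p : GolayPt} (hp : p ∈ d) (l : List GolayPt)
    (hl : l.Nodup) (h : ∀ y ∈ l, y ∉ d) (h3 : l.length ≤ 3) :
    ∃ g : MM, g • eD 0 = d ∧ g • GE.e 0 = p ∧ (([23, 5, 7].take l.length).map GE.e).map (g • ·) = l := by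
  obtain ⟨g, rfl, rfl⟩ := exists_smul_dod1 hd hp
  have := fun L hc => sC_acts.transOn GE.injOn L (H := H11) (mem_inf_of (sC_acts.stab_eD (by decide +kernel))
    (sC_acts.stab_pt (b := 0) (by norm_num) (by decide +kernel))) (X := dod0 ^^^ (2 ^ 24 - 1))
    (stab_mset (x := dod0) (by rw [← eD_zero]; exact inf_le_left) (Or.inr rfl)) hc (l.map (g⁻¹ • ·))
    (hl.map (MulAction.injective _)) (fun y hy => by
      obtain ⟨z, hz, rfl⟩ := List.mem_map.1 hy
      exact not_mem_eD0.1 fun c => h z hz (Finset.inv_smul_mem_iff.1 c))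
  obtain ⟨k, hk⟩ : ∃ k, l.length = k := ⟨_, rfl⟩
  rw [hk] at h3 ⊢
  obtain ⟨u, hu, a⟩ : ∃ u ∈ H11, (([23, 5, 7].take k).map GE.e).map (u • ·) = l.map (g⁻¹ • ·) := by
    interval_cases k
    · exact this (List.take 0 [(23, 2, 1), (5, 2, 1), (7, 2, 1)]) (by decide +kernel) (by simpa using hk)
    · exact this (List.take 1 [(23, 2, 1), (5, 2, 1), (7, 2, 1)]) (by decide +kernel) (by simpa using hk)
    · exact this (List.take 2 [(23, 2, 1), (5, 2, 1), (7, 2, 1)]) (by decide +kernel) (by simpa using hk)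
    · exact this (List.take 3 [(23, 2, 1), (5, 2, 1), (7, 2, 1)]) (by decide +kernel) (by simpa using hk)
  refine ⟨g * u, by rw [mul_smul, hu.1], by rw [mul_smul, hu.2], ?_⟩
  have := congrArg (List.map (g • ·)) a
  simpa [Function.comp_def, mul_smul] using this
theorem card_inter_octads {o o' : Finset GolayPt} (ho : o ∈ octads) (ho' : o' ∈ octads) (h : o ≠ o') :
    (o ∩ o').card = 0 ∨ (o ∩ o').card = 2 ∨ (o ∩ o').card = 4 := by
  have a := even_card_inter ho.1 ho'.1
  have b : ¬ 5 ≤ (o ∩ o').card := fun c => h (octad_eq_of_five ho ho' c)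
  rw [Nat.even_iff] at a; omega

end
end H27
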