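import Cfsg.Agent.H27.LCnt
/-! Bit-sliced arithmetic, tables of lattice vectors and automorphisms given by matrices. -/
namespace H27
noncomputable section
open MulAction Cfsg Finset
attribute [-simp] Fintype.sum_option

/-! ### bit-sliced numbers -/
def bv (A : List Nat) (i : Nat) : Nat := List.rec (motive := fun _ => Nat) 0 (fun a _ ih => (a.testBit i).toNat + 2 * ih) A
@[simp] theorem bv_nil (i : Nat) : bv [] i = 0 := rfl
@[simp] theorem bv_cons (a : Nat) (A : List Nat) (i : Nat) : bv (a :: A) i = (a.testBit i).toNat + 2 * bv A i := rfl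
def forceL {α : Type} (l : List Nat) : (List Nat → α) → α :=
  List.rec (motive := fun _ => (List Nat → α) → α) (fun k => k []) (fun a _ ih k => force a fun b => ih fun t => k (b :: t)) l
@[simp] theorem forceL_eq {α : Type} (l : List Nat) (k : List Nat → α) : forceL l k = k l := by
  induction l generalizing k with
  | nil => rfl
  | cons a l ih => exact (force_eq a fun b => forceL l fun t => k (b :: t)).trans (ih _)
def incS (B : List Nat) : Nat → List Nat :=
  List.rec (motive := fun _ => Nat → List Nat) (fun c => ite' (Nat.beq c 0) [] [c])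
    (fun b _ ih c => force (Nat.land b c) fun d => Nat.xor b c :: ih d) B
theorem bv_incS (B : List Nat) (c i : Nat) : bv (incS B c) i = bv B i + (c.testBit i).toNat := by
  induction B generalizing c with
  | nil =>
    change bv (ite' (Nat.beq c 0) [] [c]) i = _
    rw [ite'_eq]; split_ifs with h
    · rw [(beq_iff _ _).1 h]; simp
    · simp
  | cons b B ih =>
    have : incS (b :: B) c = (b ^^^ c) :: incS B (b &&& c) :=
      force_eq (Nat.land b c) fun d => Nat.xor b c :: incS B d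
    rw [this, bv_cons, bv_cons, ih, Nat.testBit_xor, Nat.testBit_and]
    cases b.testBit i <;> cases c.testBit i <;> simp <;> omega
def addS (A : List Nat) : List Nat → Nat → List Nat :=
  List.rec (motive := fun _ => List Nat → Nat → List Nat) incS
    (fun a A ih B c => List.rec (motive := fun _ => List Nat) (incS (a :: A) c)
      (fun b B _ => force (Nat.xor a b) fun t => force (Nat.lor (Nat.land a b) (Nat.land c t)) fun d =>
        Nat.xor t c :: ih B d) B) A
theorem bv_addS (A B : List Nat) (c i : Nat) : bv (addS A B c) i = bv A i + bv B i + (c.testBit i).toNat := by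
  induction A generalizing B c with
  | nil => rw [bv_nil, zero_add]; exact bv_incS B c i
  | cons a A ih =>
    cases B with
    | nil => exact bv_incS (a :: A) c i
    | cons b B =>
      have : addS (a :: A) (b :: B) c = ((a ^^^ b) ^^^ c) :: addS A B ((a &&& b) ||| (c &&& (a ^^^ b))) :=
        (force_eq (Nat.xor a b) fun t => force (Nat.lor (Nat.land a b) (Nat.land c t)) fun d =>
          Nat.xor t c :: addS A B d).trans (force_eq _ _)
      rw [this, bv_cons, bv_cons, bv_cons, ih]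
      simp only [Nat.testBit_xor, Nat.testBit_and, Nat.testBit_or]
      cases a.testBit i <;> cases b.testBit i <;> cases c.testBit i <;> simp <;> omega
/-- `acc + k * X` for `k < 2 ^ f` -/
def mulAcc (f : Nat) : Nat → List Nat → List Nat → List Nat :=
  Nat.rec (motive := fun _ => Nat → List Nat → List Nat → List Nat) (fun _ _ acc => acc)
    (fun _ ih k X acc => force (Nat.shiftRight k 1) fun k' => ite' (Nat.beq (Nat.land k 1) 1)
      (forceL (addS acc X 0) fun acc' => ih k' (0 :: X) acc') (ih k' (0 :: X) acc)) f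
theorem bv_mulAcc {f k : Nat} (hk : k < 2 ^ f) (X acc : List Nat) (i : Nat) :
    bv (mulAcc f k X acc) i = bv acc i + k * bv X i := by
  induction f generalizing k X acc with
  | zero => obtain rfl : k = 0 := by omega
            simp [mulAcc]
  | succ f ih =>
    have : mulAcc (f + 1) k X acc = ite' (Nat.beq (k &&& 1) 1)
      (forceL (addS acc X 0) fun acc' => mulAcc f (k >>> 1) (0 :: X) acc') (mulAcc f (k >>> 1) (0 :: X) acc) :=
      force_eq (Nat.shiftRight k 1) fun k' => ite' (Nat.beq (Nat.land k 1) 1)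
        (forceL (addS acc X 0) fun acc' => mulAcc f k' (0 :: X) acc') (mulAcc f k' (0 :: X) acc)
    have h2 : k / 2 < 2 ^ f := by rw [pow_succ] at hk; omega
    rw [this, ite'_eq, forceL_eq, Nat.and_one_is_mod, Nat.shiftRight_eq_div_pow, pow_one]
    split_ifs with h
    · rw [beq_iff] at h
      rw [ih h2, bv_addS]
      conv_rhs => rw [← Nat.div_add_mod k 2, h]
      simp; ring
    · rw [beq_iff] at h
      rw [ih h2]
      conv_rhs => rw [← Nat.div_add_mod k 2, show k % 2 = 0 by omega]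
      simp; ring
def orA (B : List Nat) : Nat := List.rec (motive := fun _ => Nat) 0 (fun b _ ih => Nat.lor b ih) B
theorem testBit_orA (B : List Nat) (i : Nat) : (orA B).testBit i = false ↔ bv B i = 0 := by
  induction B with
  | nil => simp [orA]
  | cons b B ih =>
    change (b ||| orA B).testBit i = false ↔ _
    rw [Nat.testBit_or, Bool.or_eq_false_iff, ih, bv_cons]
    cases b.testBit i <;> simp
/-- the lanes in which two sliced numbers differ -/
def difM (A : List Nat) : List Nat → Nat :=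
  List.rec (motive := fun _ => List Nat → Nat) orA
    (fun a A ih B => List.rec (motive := fun _ => Nat) (orA (a :: A)) (fun b B _ => Nat.lor (Nat.xor a b) (ih B)) B) A
theorem testBit_difM (A B : List Nat) (i : Nat) : (difM A B).testBit i = false ↔ bv A i = bv B i := by
  induction A generalizing B with
  | nil => exact (testBit_orA B i).trans eq_comm
  | cons a A ih =>
    cases B with
    | nil => exact testBit_orA (a :: A) i
    | cons b B =>
      change ((a ^^^ b) ||| difM A B).testBit i = false ↔ _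
      rw [Nat.testBit_or, Bool.or_eq_false_iff, ih, bv_cons, bv_cons, Nat.testBit_xor]
      cases a.testBit i <;> cases b.testBit i <;> simp <;> omega

/-! ### vectors -/
/-- the vector with 5-bit code `W` -/
def vc (W : Nat) : VV := fun p => (ent 5 W (gix p) : ℤ) - 8
theorem sum_gix {β : Type*} [AddCommMonoid β] (f : Nat → β) : ∑ p : GolayPt, f (gix p) = ∑ j ∈ range 24, f j :=
  sum_bij' (fun p _ => gix p) (fun j _ => GE.e j) (fun p _ => mem_range.2 (GE.ix_lt p)) (fun _ _ => mem_univ _)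
    (fun p _ => GE.e_ix p) (fun j hj => GE.ix_e j (mem_range.1 hj)) fun _ _ => rfl
theorem dot_shift (a b : Nat → Nat) : dotInt (fun p => (a (gix p) : ℤ) - 8) (fun p => (b (gix p) : ℤ) - 8) =
    (∑ j ∈ range 24, a j * b j : ℕ) + 1536 - 8 * (∑ j ∈ range 24, a j : ℕ) - 8 * (∑ j ∈ range 24, b j : ℕ) := by
  rw [dotInt, sum_gix fun j => ((a j : ℤ) - 8) * ((b j : ℤ) - 8), sum_congr rfl
    (g := fun j => (a j * b j : ℤ) + 64 - 8 * a j - 8 * b j) fun _ _ => by ring]
  simp only [sum_sub_distrib, sum_add_distrib, ← mul_sum, sum_const, card_range, Nat.cast_sum, Nat.cast_mul]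
  rfl
def sN (W : Nat) : Nat := sumN 24 (ent 5 W)
def dotN (W X : Nat) : Nat := sumN 24 fun p => Nat.mul (ent 5 W p) (ent 5 X p)
theorem dot_vc (W X : Nat) : dotInt (vc W) (vc X) = dotN W X + 1536 - 8 * sN W - 8 * sN X := by
  rw [sN, sN, dotN, sumN_eq, sumN_eq, sumN_eq]; exact dot_shift _ _
theorem sN_le (W : Nat) : sN W ≤ 744 := by
  rw [sN, sumN_eq]
  exact le_trans (sum_le_card_nsmul _ _ 31 fun i _ => Nat.le_of_lt_succ (ent_lt 5 W i)) (by simp)
def inL (Y : Nat) : Bool := force (Nat.land Y 1) fun m => and' (allN 24 fun p => Nat.beq (Nat.land (ent 5 Y p) 1) m)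
  (and' (inC (maskOf 24 fun p => tb (ent 5 Y p) 1)) (Nat.beq (Nat.mod (sN Y) 8) (Nat.mul 4 m)))
theorem vc_mem {Y : Nat} (h : inL Y = true) : vc Y ∈ leechLattice := by
  simp only [inL, force_eq, and'_eq, Bool.and_eq_true, allN_iff, beq_iff] at h
  have e : ∀ x : Nat, Nat.land x 1 = x % 2 := Nat.and_one_is_mod
  simp only [e] at h
  refine IsL.mem (m := (Y % 2 : ℕ)) ⟨by omega, fs_mem_GC_of h.2.1, fun p => ?_, ?_⟩
  · have a := h.1 _ (GE.ix_lt p)
    have b : ∀ x : ℕ, tb x 1 = true ↔ x / 2 % 2 = 1 := fun x => by rw [tb_eq, Nat.testBit_eq_decide_div_mod_eq]; simp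
    change ent 5 Y (gix p) % 2 = _ at a
    rcases ind01 (GE.fs (maskOf 24 fun p => tb (ent 5 Y p) 1)) p with ⟨u, v⟩ | ⟨u, v⟩ <;>
      rw [GE.mem_fs, testBit_maskOf, and_iff_right (GE.ix_lt p), b] at u <;> change _ at u <;> rw [v, vc]
    · change ent 5 Y (gix p) / 2 % 2 = 1 at u; omega
    · change ¬ ent 5 Y (gix p) / 2 % 2 = 1 at u; omega
  · have a : sN Y % 8 = 4 * (Y % 2) := h.2.2
    rw [sN, sumN_eq] at a
    simp only [vc, sum_sub_distrib, sum_const_pt, ← Nat.cast_sum, sum_gix (ent 5 Y)]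
    omega
open Classical in
/-- the lattice vector with code `X` -/
def lv (X : Nat) : LL := if h : vc X ∈ leechLattice then ⟨_, h⟩ else 0
theorem coe_lv {X : Nat} (h : inL X = true) : (lv X : VV) = vc X := by rw [lv, dif_pos (vc_mem h)]

/-! ### generators of the lattice -/
theorem ind_inter_symmDiff (c d : Finset GolayPt) (i : GolayPt) :
    2 * ind (symmDiff c d) i = 2 * ind c i + 2 * ind d i - 4 * ind (c ∩ d) i := by
  by_cases h : i ∈ c <;> by_cases h' : i ∈ d <;> simp [ind, h, h', Finset.mem_symmDiff]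
theorem four_mem {K : AddSubgroup VV} (h4 : ∀ j, (Pi.single j 4 + Pi.single none 4 : VV) ∈ K) {y : VV}
    (h : (∑ i, y i) % 2 = 0) : (fun i => 4 * y i) ∈ K := by
  have : (fun i => 4 * y i) = ∑ j, y j • (Pi.single j 4 + Pi.single none 4 : VV) -
      ((∑ i, y i) / 2) • (Pi.single none 4 + Pi.single none 4 : VV) := by
    funext k
    simp only [Pi.sub_apply, Finset.sum_apply, Pi.smul_apply, Pi.add_apply, smul_eq_mul, mul_add, sum_add_distrib,
      Pi.single_apply, mul_ite, mul_zero, sum_ite_eq, mem_univ, if_true]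
    split_ifs
    · simp only [← sum_mul]; omega
    · simp; ring
  rw [this]
  exact K.sub_mem (K.sum_mem fun j _ => K.zsmul_mem (h4 j) _) (K.zsmul_mem (h4 none) _)
theorem LL_le {K : AddSubgroup VV} {b : VV} {c : Finset GolayPt} (hb : IsL b 1 c) (h1 : b ∈ K)
    (h2 : ∀ x ∈ gB, (fun i => 2 * ind (GE.fs x) i) ∈ K)
    (h4 : ∀ j, (Pi.single j 4 + Pi.single none 4 : VV) ∈ K) : leechLattice ≤ K := by
  have a : ∀ x, inC x = true → GE.fs x ∈ GC ∧ (fun i => 2 * ind (GE.fs x) i) ∈ K := fun x hx => by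
    refine inC_ind (fun x => GE.fs x ∈ GC ∧ (fun i => 2 * ind (GE.fs x) i) ∈ K) ⟨GE.fs_zero ▸ empty_mem_GC, ?_⟩
      (fun x y u v => ?_) (fun b hb => ⟨fs_mem_GC_of ?_, h2 b hb⟩) hx
    · rw [GE.fs_zero]; convert K.zero_mem using 1; funext i; simp [ind]
    · rw [GE.fs_xor]
      refine ⟨symmDiff_mem_GC u.1 v.1, ?_⟩
      convert K.sub_mem (K.add_mem u.2 v.2) (four_mem h4 (y := ind (GE.fs x ∩ GE.fs y)) ?_) using 1
      · funext i; exact ind_inter_symmDiff _ _ i
      · obtain ⟨k, hk⟩ := even_card_inter u.1 v.1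
        rw [sum_ind, hk]; omega
    · revert b; decide +kernel
  have e : ∀ x c, IsL x 0 c → x ∈ K := fun x c h => by
    obtain ⟨z, hz, rfl⟩ := mem_GC_iff.1 h.gc
    have s : ∀ i, x i = 2 * ind (GE.fs z) i + 4 * (x i / 4) := fun i => by have := h.md i; omega
    convert K.add_mem (a z hz).2 (four_mem h4 (y := fun i => x i / 4) ?_) using 1
    · exact funext s
    · have u := h.sm
      have v := four_dvd_card h.gc
      rw [sum_congr rfl fun i _ => s i, sum_add_distrib, ← mul_sum, ← mul_sum, sum_ind] at u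
      omega
  intro x hx
  obtain ⟨m, d, h⟩ := mem_LL.1 hx
  rcases h.m01 with rfl | rfl
  · exact e x d h
  · obtain ⟨m', d', h'⟩ := mem_LL.1 (leechLattice.sub_mem hx hb.mem)
    have : m' = 0 := by
      have := h'.md none; have := h.md none; have := hb.md none; have := h'.m01
      simp only [Pi.sub_apply] at *; omega
    subst this
    simpa using K.add_mem (e _ _ h') h1
/-- a triangular basis of the lattice -/
def LB : List Nat := [0x2a5294a5294a5294a5294a5294a529, 0x429085210a5294a421084210842148, 0x5290a429085214a421084210842908, 0x42948529484214a421084210852108, 0x5210a5214a4214a421084210a42108, 0x5214a4294842948421084214842108, 0x529485290852908421084290842108, 0x4210a529485290a421085210842108, 0x4214a5290a521484210a4210842108, 0x4294a5214a42908421484210842108, 0x5214a4210a5290a429084210842108, 0x529484214a52148521084210842108, 0x62108421084210c421084210842108, 0x621084210842188421084210842108, 0x621084210843108421084210842108,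 0x621084210862108421084210842108, 0x621084210c42108421084210842108, 0x621084218842108421084210842108, 0x621084310842108421084210842108, 0x621086210842108421084210842108, 0x6210c4210842108421084210842108, 0x621884210842108421084210842108, 0x631084210842108421084210842108, 0x821084210842108421084210842108]
theorem LB_inL : allL LB inL = true := by decide +kernel
def combV (cs : List ℤ) (l : List Nat) : VV := (List.zipWith (fun c X => c • vc X) cs l).sum
theorem combV_mem {K : AddSubgroup VV} {l : List Nat} (h : ∀ X ∈ l, vc X ∈ K) (cs : List ℤ) : combV cs l ∈ K := by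
  refine K.list_sum_mem fun x hx => ?_
  obtain ⟨i, hi, rfl⟩ := List.getElem_of_mem hx
  rw [List.getElem_zipWith]
  exact K.zsmul_mem (h _ (List.getElem_mem _)) _
theorem LL_le_LB {K : AddSubgroup VV} (h : ∀ X ∈ LB, vc X ∈ K) : leechLattice ≤ K := by
  refine LL_le (b := vc (LB.getD 0 0)) (c := ∅) ⟨Or.inr rfl, empty_mem_GC, by decide +kernel, by decide +kernel⟩
    (h _ (by decide +kernel)) (fun x hx => ?_) fun j => ?_
  · obtain ⟨cs, -, a⟩ := (by decide +kernel : ∀ x ∈ gB, ∃ cs ∈ ([[2, -1, -1, -1, -1, -1, -1, -1, -1, -1, -1, -1, 3, 3, 3, 3, 3, 3, 3, 3, 3, 3, 3, -14], [0, 1, 0, 0, 0, 0, 0, 0, 0, 0, 0, 0, 0, 0, 0, 0, 0, 0, 0, 0, 0, 0, 0, 0], [0, 0, 1, 0, 0, 0, 0, 0, 0, 0, 0, 0, 0, 0, 0, 0, 0, 0, 0, 0, 0, 0, 0, 0], [0, 0, 0, 1, 0, 0, 0, 0, 0, 0, 0, 0, 0, 0, 0, 0, 0, 0, 0, 0, 0, 0, 0, 0], [0, 0, 0, 0, 1, 0, 0, 0, 0, 0, 0, 0, 0, 0, 0, 0, 0, 0, 0, 0, 0, 0, 0, 0], [0, 0, 0, 0, 0, 1, 0, 0, 0, 0, 0, 0, 0, 0, 0, 0, 0, 0, 0, 0, 0, 0, 0, 0], [0,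 0, 0, 0, 0, 0, 1, 0, 0, 0, 0, 0, 0, 0, 0, 0, 0, 0, 0, 0, 0, 0, 0, 0], [0, 0, 0, 0, 0, 0, 0, 1, 0, 0, 0, 0, 0, 0, 0, 0, 0, 0, 0, 0, 0, 0, 0, 0], [0, 0, 0, 0, 0, 0, 0, 0, 1, 0, 0, 0, 0, 0, 0, 0, 0, 0, 0, 0, 0, 0, 0, 0], [0, 0, 0, 0, 0, 0, 0, 0, 0, 1, 0, 0, 0, 0, 0, 0, 0, 0, 0, 0, 0, 0, 0, 0], [0, 0, 0, 0, 0, 0, 0, 0, 0, 0, 1, 0, 0, 0, 0, 0, 0, 0, 0, 0, 0, 0, 0, 0], [0, 0, 0, 0, 0, 0, 0, 0, 0, 0, 0, 1, 0, 0, 0, 0, 0, 0, 0, 0, 0, 0, 0, 0]] : List (List ℤ)),
      (fun i => 2 * ind (GE.fs x) i) = combV cs LB) x hx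
    exact a ▸ combV_mem h cs
  · rw [(by decide +kernel : ∀ j : GolayPt, (Pi.single j 4 + Pi.single none 4 : VV) =
      combV (([[4, -2, -2, -2, -2, -2, -2, -2, -2, -2, -2, -2, 5, 6, 5, 6, 5, 5, 5, 6, 6, 6, 5, -25], [0, 2, 0, 0, 0, 0, 0, 0, 0, 0, 0, 0, -1, -1, -1, -1, -1, 0, 0, -1, 0, 0, -1, 4], [0, 0, 2, 0, 0, 0, 0, 0, 0, 0, 0, 0, -1, -1, 0, -1, 0, 0, -1, 0, -1, 0, -1, 3], [0, 0, 0, 2, 0, 0, 0, 0, 0, 0, 0, 0, -1, -1, 0, 0, 0, -1, -1, -1, 0, -1, -1, 4], [0, 0, 0, 0, 2, 0, 0, 0, 0, 0, 0, 0, -1, -1, 0, 0, -1, -1, 0, -1, -1, 0, 0, 3], [0, 0, 0, 0, 0, 2, 0, 0, 0, 0, 0, 0, 0, -1, -1, 0, 0, -1, -1, 0, -1, -1, 0, 3], [0, 0, 0, 0, 0, 0, 2, 0, 0, 0, 0, 0, 0, 0, -1, -1, 0, 0, -1, -1, 0, -1, -1, 3], [0, 0, 0, 0, 0, 0, 0, 2, 0, 0, 0, 0, -1, 0, -1, -1, 0, -1, -1, -1, -1, 0, 0, 4], [0, 0, 0, 0, 0, 0, 0, 0, 2, 0, 0, 0, 0, -1, 0, -1, -1, 0, -1, -1, -1, -1, 0, 4], [0, 0, 0, 0, 0, 0, 0, 0, 0, 2, 0, 0, 0, 0, -1, 0, -1, -1, 0, -1, -1, -1, -1, 4], [0, 0,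 0, 0, 0, 0, 0, 0, 0, 0, 2, 0, -1, 0, -1, -1, -1, 0, 0, 0, -1, -1, 0, 3], [0, 0, 0, 0, 0, 0, 0, 0, 0, 0, 0, 2, 0, -1, 0, -1, -1, -1, 0, 0, 0, -1, -1, 3], [0, 0, 0, 0, 0, 0, 0, 0, 0, 0, 0, 0, 1, 0, 0, 0, 0, 0, 0, 0, 0, 0, 0, 0], [0, 0, 0, 0, 0, 0, 0, 0, 0, 0, 0, 0, 0, 1, 0, 0, 0, 0, 0, 0, 0, 0, 0, 0], [0, 0, 0, 0, 0, 0, 0, 0, 0, 0, 0, 0, 0, 0, 1, 0, 0, 0, 0, 0, 0, 0, 0, 0], [0, 0, 0, 0, 0, 0, 0, 0, 0, 0, 0, 0, 0, 0, 0, 1, 0, 0, 0, 0, 0, 0, 0, 0], [0, 0, 0, 0, 0, 0, 0, 0, 0, 0, 0, 0, 0, 0, 0, 0, 1, 0, 0, 0, 0, 0, 0, 0], [0, 0, 0, 0, 0, 0, 0, 0, 0, 0, 0, 0, 0, 0, 0, 0, 0, 1, 0, 0, 0, 0, 0, 0], [0, 0, 0, 0, 0, 0, 0, 0, 0, 0, 0, 0, 0, 0, 0, 0, 0, 0, 1, 0, 0, 0, 0, 0], [0, 0, 0, 0, 0, 0, 0, 0, 0, 0, 0, 0, 0, 0, 0, 0, 0, 0, 0, 1, 0, 0, 0, 0], [0, 0, 0, 0, 0, 0, 0, 0, 0, 0, 0, 0, 0, 0, 0, 0, 0, 0, 0, 0, 1, 0, 0, 0], [0, 0, 0, 0, 0, 0, 0, 0, 0, 0, 0, 0, 0, 0, 0, 0, 0, 0, 0, 0, 0, 1, 0, 0], [0, 0, 0, 0, 0, 0, 0, 0, 0, 0, 0, 0, 0, 0, 0, 0, 0, 0,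 0, 0, 0, 0, 1, 0], [0, 0, 0, 0, 0, 0, 0, 0, 0, 0, 0, 0, 0, 0, 0, 0, 0, 0, 0, 0, 0, 0, 0, 1]] : List (List ℤ)).getD (gix j) []) LB) j]
    exact combV_mem h _

/-! ### matrices -/
def rc (M q : Nat) : Nat := Nat.shiftRight M (Nat.mul 120 q)
/-- row `q` of eight times the matrix -/
def rw' (M : Nat) (q : GolayPt) : VV := vc (rc M (gix q))
def csum (M p : Nat) : Nat := sumN 24 fun q => ent 5 (rc M q) p
def orthChk (M : Nat) : Bool := allN 24 fun p => force (csum M p) fun s => allN (Nat.succ p) fun r =>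
  Nat.beq (Nat.add (sumN 24 fun q => force (rc M q) fun R => Nat.mul (ent 5 R p) (ent 5 R r)) 1536)
    (Nat.add (ite' (Nat.beq p r) 64 0) (Nat.mul 8 (Nat.add s (csum M r))))
theorem orth_of_chk {M : Nat} (h : orthChk M = true) (p r : GolayPt) :
    ∑ q, rw' M q p * rw' M q r = if p = r then 64 else 0 := by
  simp only [orthChk, allN_iff, force_eq, beq_iff, sumN_eq, csum, ite'_eq] at h
  wlog c : gix r ≤ gix p generalizing p r
  · simpa only [mul_comm, eq_comm] using this r p (by omega)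
  have a := h _ (GE.ix_lt p) (gix r) (Nat.lt_succ_of_le c)
  have b := dot_shift (fun q => ent 5 (rc M q) (gix p)) fun q => ent 5 (rc M q) (gix r)
  change (∑ q ∈ range 24, ent 5 (rc M q) (gix p) * ent 5 (rc M q) (gix r)) + 1536 = (if gix p = gix r then 64 else 0) +
    8 * (∑ q ∈ range 24, ent 5 (rc M q) (gix p) + ∑ q ∈ range 24, ent 5 (rc M q) (gix r)) at a
  change ∑ q, rw' M q p * rw' M q r = _ at b
  have e : gix p = gix r ↔ p = r := GE.ix_inj.eq_iff
  simp only [e] at a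
  split_ifs at a ⊢ <;> omega
theorem norm_rows {M : Nat} (h : orthChk M = true) (z : VV) : ∑ q, dotInt (rw' M q) z ^ 2 = 64 * sqNorm z := by
  simp only [dotInt, sq, sum_mul_sum]
  rw [sum_comm, sqNorm, mul_sum]
  refine sum_congr rfl fun p _ => ?_
  rw [sum_comm, sum_congr rfl (g := fun r => z p * z r * if p = r then 64 else 0) fun r _ => by
    rw [← orth_of_chk h, mul_sum]; exact sum_congr rfl fun q _ => by ring]
  simp; ring
def mvN (M X : Nat) : Nat := force (sN X) fun s => sumN 24 fun q => force (rc M q) fun R =>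
  Nat.shiftLeft (Nat.sub (Nat.div (Nat.add (dotN R X) 1600) 8) (Nat.add (sN R) s)) (Nat.mul 5 q)
def mvChk (M X Y : Nat) : Bool := force (sN X) fun s => allN 24 fun q => force (rc M q) fun R =>
  Nat.beq (Nat.add (dotN R X) 1600) (Nat.mul 8 (Nat.add (Nat.add (sN R) s) (ent 5 Y q)))
/-- the matrix sends `x` to `y` -/
def Mv (M : Nat) (x y : VV) : Prop := ∀ q, dotInt (rw' M q) x = 8 * y q
theorem mv_of_chk {M X Y : Nat} (h : mvChk M X Y = true) : Mv M (vc X) (vc Y) := fun q => by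
  simp only [mvChk, force_eq, allN_iff, beq_iff] at h
  have : dotN (rc M (gix q)) X + 1600 = 8 * (sN (rc M (gix q)) + sN X + ent 5 Y (gix q)) := h _ (GE.ix_lt q)
  rw [rw', dot_vc, vc]; omega
def cochk (M : Nat) : Bool := and' (orthChk M) (allL LB fun X => force (mvN M X) fun Y => and' (mvChk M X Y) (inL Y))
theorem exists_mv {M : Nat} (h : cochk M = true) (x : LL) : ∃ y : LL, Mv M x y := by
  simp only [cochk, and'_eq, Bool.and_eq_true, allL_iff, force_eq] at h
  let K : AddSubgroup VV :=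
    { carrier := {x | ∃ y : LL, Mv M x y}
      zero_mem' := ⟨0, fun q => by simp [dotInt]⟩
      add_mem' := fun ⟨y, a⟩ ⟨z, b⟩ => ⟨y + z, fun q => by simp [dot_add, a q, b q, mul_add]⟩
      neg_mem' := fun ⟨y, a⟩ => ⟨-y, fun q => by simp [dot_neg, a q]⟩ }
  exact LL_le_LB (K := K) (fun X hX => ⟨⟨_, vc_mem (h.2 X hX).2⟩, mv_of_chk (h.2 X hX).1⟩) x.2
theorem Mv.unique {M : Nat} {x y z : VV} (a : Mv M x y) (b : Mv M x z) : y = z :=
  funext fun q => by have := a q; have := b q; omega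
theorem Mv.norm {M : Nat} (h : orthChk M = true) {x y : VV} (a : Mv M x y) : sqNorm y = sqNorm x := by
  have := norm_rows h x
  simp only [a _, mul_pow, ← mul_sum] at this
  change _ * sqNorm y = _ at this
  omega
theorem Mv.inj {M : Nat} (h : orthChk M = true) {x y z : VV} (a : Mv M x z) (b : Mv M y z) : x = y := by
  have : Mv M (x - y) 0 := fun q => by simp [dot_sub, a q, b q]
  exact sub_eq_zero.1 (sqNorm_eq_zero ((this.norm h).symm.trans (by simp [sqNorm])))
theorem orth_of_cochk {M : Nat} (h : cochk M = true) : orthChk M = true := by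
  rw [cochk, and'_eq, Bool.and_eq_true] at h; exact h.1
/-- the automorphism with matrix code `M` -/
def cm (M : Nat) : CC := if h : cochk M = true then mkCo (fun x => (exists_mv h x).choose)
  (fun x y => Subtype.ext ((exists_mv h (x + y)).choose_spec.unique fun q => by
    simp [dot_add, (exists_mv h x).choose_spec q, (exists_mv h y).choose_spec q, mul_add]))
  (fun x => (exists_mv h x).choose_spec.norm (orth_of_cochk h)) else 1
theorem cm_mv {M : Nat} (h : cochk M = true) (x : LL) : Mv M x (cm M • x : LL) := by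
  rw [cm, dif_pos h]; exact (exists_mv h x).choose_spec
theorem cm_smul {M : Nat} (h : cochk M = true) {x y : LL} (a : Mv M x y) : cm M • x = y :=
  Subtype.ext ((cm_mv h x).unique a)
theorem cm_smul_vc {M X Y : Nat} (h : cochk M = true) {x y : LL} (hx : (x : VV) = vc X) (hy : (y : VV) = vc Y)
    (a : mvChk M X Y = true) : cm M • x = y := cm_smul h (hx ▸ hy ▸ mv_of_chk a)
theorem map_cm_stab {Ms : List Nat} {X : Nat} {x : LL} (h : allL Ms cochk = true) (hx : (x : VV) = vc X)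
    (a : allL Ms (fun M => mvChk M X X) = true) : ∀ g ∈ Ms.map cm, g ∈ stabilizer CC x := by
  intro g hg
  obtain ⟨M, hM, rfl⟩ := List.mem_map.1 hg
  exact cm_smul_vc ((allL_iff _ _).1 h M hM) hx hx ((allL_iff _ _).1 a M hM)
def cE : Nat := 0x821084210842108421084210842108
theorem coe_e8_none : (e8 none : VV) = vc cE := by decide +kernel
def cU : Nat := 0x62108421084210842108421084210c
def cU' : Nat := 0x621084210842108421084210842104
def cV : Nat := 0x19ce739ce739ce739ce739ce739ce7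
theorem coe_lU : (lU : VV) = vc cU := by decide +kernel
theorem coe_lU' : (lU' : VV) = vc cU' := by decide +kernel
theorem coe_lV : (lV : VV) = vc cV := by decide +kernel

end
end H27
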