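import Cfsg.Agent.H27.F22a
import Cfsg.Agent.H28.Tw4
/-! Bounds for the centralizers of the elements of the classes 3C and 3D in a group of type M(22). -/
set_option Elab.async false
namespace H27
noncomputable section
open MulAction Cfsg H9 H28 H16 Subgroup
variable {G : Type*} [Group G] {D : Set G} {ε : Nat → G} {xs : List G}
def e3D : List Ex := [Ex.sub l22 [0, 1, 0, 2, 3, 2, 4, 3, 6, 7, 2, 6, 3, 4, 1, 2, 3, 0, 1, 2, 6, 7, 2, 3, 1, 2, 6, 4, 3, 0], Ex.sub l22 [1, 0, 3, 2, 1, 7, 6, 4, 2, 3, 0, 1, 2, 6, 7, 6, 4, 2, 3, 1, 2, 6, 3, 4, 2, 0]]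
def m3D : Nat := 0x700000000000000000000000000000000277000000000000000000000000006f800000000000000000001f8002000000000001f801000000001f8040000007e0400000f8300003e399003e77403ddf077c3f1cd4
def r3D : List Px := [(0, .w []), (6, .w []), (0, .w [6, 5, 4, 3, 2, 1]), (0, .w [7, 6, 5, 4, 3, 2, 1])]
theorem o3D : and' (okP t22 r3D) (Nat.beq (dif (ones t22.n) (orbE t22.Ns e3D 10 (orL (mapL (Px.ix t22) r3D)))) m3D) = true := by decide +kernel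
theorem cand3D (h : F22 D ε xs) {d : Px} (hc : and' (okP t22 [d]) (all2 (fun q u => ite' (fxW t22 x3D d u) (not' (fxW t22 x3D q u))
    (fxW t22 x3D q u)) r3D [[1, 1], [1, 1], [1, 1], [1, 1]]) = true) : Cand 3510 ε (x3D.ev xs) (d.ex.ev xs) m3D :=
  cand_words h (by
    simp only [e3D, List.forall_mem_cons]
    exact ⟨h.comm2 (base22 h) (by decide +kernel), h.comm2 (base22 h) (by decide +kernel), by simp⟩) o3D _ hc
theorem c3D_e : endChk t22 [(0, .w []), (6, .w []), (8, .w []), (5, .w []), (4, .w []), (1, .w [])] [x3D] (baseI t22) [([], 0), ([], 5), ([6, 4, 6, 5, 6], 3), ([6, 5, 6], 3), ([], 4), ([], 3), ([], 1), ([6, 6, 5, 4, 2, 6], 2), ([], 2)] = true := by decide +kernel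
theorem c3D_5 : H9.lvl t22 12 (ones 3510) [(6, .w []), (8, .w []), (5, .w []), (4, .w []), (1, .w [])] [x3D] [(([], 0), (6, .w [])), (([], 2), (5, .w [])), (([], 3), (4, .w [])), (([5], 4), (2, .w [8, 3, 7, 4, 3])), (([], 1), (8, .w [])), (([5, 3], 2), (1, .w [3, 2]))] (0, .w []) 1 = true := by decide +kernel
theorem c3D_4 : H9.lvl t22 12 (ones 3510) [(8, .w []), (5, .w []), (4, .w []), (1, .w [])] [x3D] [(([], 0), (8, .w [])), (([4], 3), (2, .w [8, 3, 7, 4, 3])), (([], 3), (1, .w [])), (([2, 4, 3, 4], 1), (3, .w [4])), (([], 2), (4, .w [])), (([4, 2], 1), (1, .w [3, 2]))] (6, .w []) 1 = true := by decide +kernel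
theorem c3D_3 : H9.lvl t22 12 (ones 3510) [(5, .w []), (4, .w []), (1, .w [])] [x3D] [(([], 0), (5, .w [])), (([], 1), (4, .w [])), (([3, 2, 3], 0), (3, .w [])), (([3, 1], 0), (1, .w [3, 2])), (([], 2), (1, .w [])), (([3, 0, 3], 2), (1, .w [8, 7, 3, 4, 2, 3, 7, 5, 4, 3, 2]))] (8, .w []) 2 = true := by decide +kernel
theorem c3D_iv : and' (and' (okP t22 [(5, .w []), (4, .w []), (1, .w [])]) (dvOk t22 [(5, .w []), (4, .w []), (1, .w [])] [x3D] [(([], 0), (5, .w [])), (([], 1), (4, .w [])), (([3, 2, 3], 0), (3, .w [])), (([1, 0, 3], 0), (2, .w [8, 7, 3])), (([], 2), (1, .w [])), (([3, 1, 3, 2, 3], 0), (2, .w []))])) (Nat.beq (nbL t22 (mapL Prod.snd [(([], 0), (5, .w [])), (([], 1), (4, .w [])), (([3, 2, 3], 0), (3, .w [])), (([1, 0, 3], 0), (2, .w [8, 7, 3])), (([], 2), (1, .w [])), (([3, 1, 3, 2, 3], 0), (2, .w []))])) 0) = true := by decide +kernel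
theorem c3D_2 : H9.lvl t22 12 m3D [(4, .w []), (1, .w [])] [x3D] [(([], 1), (1, .w [])), (([0, 2], 0), (1, .w [8, 4, 2, 3, 7, 5, 4, 3, 2])), (([], 0), (4, .w [])), (([2], 1), (2, .w [8, 3, 7, 4, 3]))] (5, .w []) 9 = true := by decide +kernel
theorem c3D_1 : H9.lvl t22 12 m3D [(1, .w [])] [x3D] [(([], 0), (1, .w [])), (([1], 0), (2, .w [8, 3, 7, 4, 3]))] (4, .w []) 18 = true := by decide +kernel
theorem c3D_0 : H9.lvl t22 12 m3D [] [x3D] [] (1, .w []) 108 = true := by decide +kernel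
theorem c3D (h : F22 D ε xs) (iv : IV D 3) : Nat.card (CA [x3D.ev xs]) ≤ 17496 := haveI := h.finite (by norm_num)
  (h.lvl_le _ _ 0 (by exact cand3D h (by decide +kernel)) _ c3D_0 (h.lvl_le _ _ 1 (by exact cand3D h (by decide +kernel)) _ c3D_1 (h.lvl_le _ _ 2 (by exact cand3D h (by decide +kernel)) _ c3D_2 (end_iv h iv _ c3D_iv (h.lvl_le _ _ 3 (cand_all _ _ _ _) _ c3D_3 (h.lvl_le _ _ 4 (cand_all _ _ _ _) _ c3D_4 (h.lvl_le _ _ 5 (cand_all _ _ _ _) _ c3D_5 (h.end_le h.base0 _ c3D_e))))))))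
def e3C : List Ex := [Ex.sub l22 [1, 0, 2, 1, 7, 6, 4, 2, 3, 0, 1, 2, 6, 7, 4, 3, 1, 2, 6, 2, 3, 4, 0, 1, 2], Ex.sub l22 [0, 2, 1, 0, 4, 3, 2, 7, 6, 2, 3, 1, 2, 6, 7, 3, 0, 1, 2, 6, 2, 3, 4, 1, 2, 0, 1, 0]]
def m3C : Nat := 0x6bd5dac3cfbebfe51d2bb5de27d7c6f971ff7bff5561dab5edafbe67b9cbfd0f97cdb8bfb7dedffd3670fb7a6d7ed5fb6e2e6bcd9dffe983f6c6dacee0bef6df7beff679c82f71fb5bbfce7dbd29eef6ccffef37a8e3fdd85ad9de1dddef7ef1f7bf7c882fbcdfbbb7dd27f7d47ef4a9ffebfa1e786fddece6b397d9bb7fbbf333b9ffa801ef6fdfbb65bfe87daae7717d3f635e63df6feec6bb76d66bfdfff7965a7f9007fdb6febaf83e9bafb8fab9e7078e6dffbbfe62dead6cffffefb7555f901f7abf6b8327f56e56795d7f8d6baffffceeb6b55fdf7bbfaed2d83d93fa0afa5be50fd6b75f74fee9afbddf4b6bddbeae9f9e3abe83e02c6fad44bfbed69d47ff57bfad5db6af66fbe66be3f210000d728fff3aafc9f56a74b7fe9ef5fc978bbdb7c73040803000052d3ea5ff6f776d3c4d7fb75f23bfe4f384800203300000b5787fcfefa89db4df36774fd6c80008000783082003dce3f3fe3b3185dff7e50000000000684304001e9c3fb96267fef280000000264048000e3e7a59cffe400000002402001d3b44bfe000000440003de95f8000020001fc2e00000003f18000000750000003c000000c0000040000800400000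
def r3C : List Px := [(0, .w []), (1, .w []), (3, .w []), (6, .w []), (0, .w [8, 7, 6, 5, 4, 3, 2, 1])]
theorem o3C : and' (okP t22 r3C) (Nat.beq (dif (ones t22.n) (orbE t22.Ns e3C 10 (orL (mapL (Px.ix t22) r3C)))) m3C) = true := by decide +kernel
theorem c3C_e : endChk t22 [(4, .w []), (3, .w []), (7, .w []), (0, .w [6, 5, 4, 3, 2, 1])] [x3C] (baseI t22) [([3, 4, 2, 3, 4, 1, 2, 3, 4, 3, 4, 3, 4, 2, 3, 4, 1, 2, 3, 4, 3, 2, 1], 0), ([4, 3, 4, 4, 2, 3, 4, 1, 2, 3, 4, 3, 4, 1, 2, 3, 4, 3, 4, 0, 1, 2, 3, 4, 3, 2, 1], 0), ([4, 1, 2, 3, 4, 2, 3, 4, 3, 4, 0, 1, 2, 3, 4, 1, 2, 3, 4, 3, 4, 3, 2, 1], 0), ([], 1), ([], 0), ([4, 4, 3, 4, 2, 3, 4, 3, 4, 3, 4, 1, 2, 3, 4, 1, 2, 3, 4, 3, 4, 3, 2, 1], 0), ([3, 4, 4, 2, 3, 4, 3, 4, 2, 3, 4, 2, 3, 4, 4, 1, 2, 3, 4, 0, 1, 2, 3, 4], 3), ([], 2), ([2, 3, 4, 1, 2, 3, 4, 2, 3, 4, 3, 4, 1, 2, 3, 4, 3, 4, 3, 2], 1)] = true := by decide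 +kernel
theorem c3C_3 : H9.lvl t22 12 (ones 3510) [(3, .w []), (7, .w []), (0, .w [6, 5, 4, 3, 2, 1])] [x3C] [(([], 1), (7, .w [])), (([], 2), (0, .w [6, 5, 4, 3, 2, 1])), (([2, 3, 3], 2), (1, .w [7, 8, 3, 7, 4, 3, 2])), (([3, 2, 3], 2), (2, .w [5, 4, 3]))] (4, .w []) 2 = true := by decide +kernel
theorem c3C_iv : and' (and' (okP t22 [(3, .w []), (7, .w []), (0, .w [6, 5, 4, 3, 2, 1])]) (dvOk t22 [(3, .w []), (7, .w []), (0, .w [6, 5, 4, 3, 2, 1])] [x3C] [(([], 0), (3, .w [])), (([], 1), (7, .w [])), (([0, 1, 2, 3, 2, 3, 2, 3, 2], 1), (1, .w [8, 4, 2, 3, 7, 5, 4, 3, 2])), (([], 2), (0, .w [6, 5, 4, 3, 2, 1])), (([3, 2, 3], 2), (2, .w [5, 4, 3]))])) (Nat.beq (nbL t22 (mapL Prod.snd [(([], 0), (3, .w [])), (([], 1), (7, .w [])), (([0, 1, 2, 3, 2, 3, 2, 3, 2], 1), (1, .w [8, 4, 2, 3, 7, 5, 4, 3, 2])), (([], 2), (0, .w [6, 5, 4, 3, 2, 1])), (([3, 2, 3], 2), (2,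 .w [5, 4, 3]))])) 0) = true := by decide +kernel
theorem c3C_2 : H9.lvl t22 12 x3CM [(7, .w []), (0, .w [6, 5, 4, 3, 2, 1])] [x3C] [(([], 1), (0, .w [6, 5, 4, 3, 2, 1])), (([], 0), (7, .w []))] (3, .w []) 4 = true := by decide +kernel
theorem c3C_1 : H9.lvl t22 12 x3CM [(0, .w [6, 5, 4, 3, 2, 1])] [x3C] [(([1, 0, 1], 0), (2, .w [5, 4, 3]))] (7, .w []) 18 = true := by decide +kernel
theorem c3C_0 : H9.lvl t22 12 m3C [] [x3C] [] (0, .w [6, 5, 4, 3, 2, 1]) 1944 = true := by decide +kernel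
theorem c3C (h : F22 D ε xs) (iv : IV D 3) : Nat.card (CA [x3C.ev xs]) ≤ 139968 := haveI := h.finite (by norm_num)
  (h.lvl_le _ _ 0 (by exact cand_words h (x := x3C) (by
    simp only [e3C, List.forall_mem_cons]
    exact ⟨h.comm2 (base22 h) (by decide +kernel), h.comm2 (base22 h) (by decide +kernel), by simp⟩) o3C [[1, 2], [1, 1], [1, 2], [1, 2], [1, 2]] (by decide +kernel)) _ c3C_0 (h.lvl_le _ _ 1 (by exact h.cand_fix (x3C_r h) (by decide +kernel)) _ c3C_1 (h.lvl_le _ _ 2 (by exact h.cand_fix (x3C_r h) (by decide +kernel)) _ c3C_2 (end_iv h iv _ c3C_iv (h.lvl_le _ _ 3 (cand_all _ _ _ _) _ c3C_3 (h.end_le h.base0 _ c3C_e))))))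
end
end H27
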