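import Cfsg.Agent.H27.Enum
import Cfsg.Prelude.Def_Sporadic_a
/-! The binary Golay code on 24-bit masks. -/
namespace H27
noncomputable section
open MulAction Cfsg
open scoped Pointwise

def gix : GolayPt → Nat
  | none => 23
  | some x => x.val
def gpt (i : Nat) : GolayPt := if i < 23 then some (i : ZMod 23) else none

/-- the 24 points: residue `i` has number `i`, the extra point has number 23 -/
def GE : Enum GolayPt 24 where
  e := gpt
  ix := gix
  ix_lt := by decide +kernel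
  e_ix := by decide +kernel
  ix_e := by decide +kernel

/-- the supports of the code words -/
abbrev GC : Set (Finset GolayPt) := supports (golayCode : Set (GolayPt → ZMod 2))

def pop12 (v : Nat) : Nat := Nat.mod (Nat.land (Nat.mul v 0x1001001001001) 0x84210842108421) 0x1f
def pop24 (x : Nat) : Nat := Nat.add (pop12 (Nat.land x 4095)) (pop12 (Nat.land (Nat.shiftRight x 12) 4095))

theorem pop12_chk : allN 4096 (fun v => Nat.beq (pop12 v) (popT 4 v)) = true := by decide +kernel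

theorem pop12_eq (x : Nat) : pop12 (x &&& 4095) = ((Finset.range 12).filter (fun j => x.testBit j)).card := by
  have h : x &&& 4095 < 2 ^ 12 := lt_of_le_of_lt Nat.and_le_right (by norm_num)
  rw [(beq_iff _ _).1 ((allN_iff _ _).1 pop12_chk _ h), popT_eq_of_lt (n := 12) (by norm_num) h]
  congr 1
  apply Finset.filter_congr
  intro j hj
  have : (4095 : Nat) = 2 ^ 12 - 1 := rfl
  rw [Nat.testBit_and, this, Nat.testBit_two_pow_sub_one]
  simp [Finset.mem_range.1 hj]

theorem pop24_eq (x : Nat) : pop24 x = ((Finset.range 24).filter (fun j => x.testBit j)).card := by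
  change pop12 (x &&& 4095) + pop12 ((x >>> 12) &&& 4095) = _
  have : (24 : Nat) = 12 + 12 := rfl
  rw [pop12_eq, pop12_eq, this, Finset.range_add_eq_union, Finset.filter_union, Finset.card_union_of_disjoint,
    Finset.filter_map, Finset.card_map]
  · congr 2
  · exact Finset.disjoint_filter_filter (Finset.disjoint_range_addLeftEmbedding _ _)

theorem card_gfs (x : Nat) : (GE.fs x).card = pop24 x := by rw [GE.card_fs, pop24_eq]

/-- the word with the given mask as support -/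
def wd (x : Nat) : GolayPt → ZMod 2 := fun p => if x.testBit (gix p) then 1 else 0
theorem wd_xor (x y : Nat) : wd (x ^^^ y) = wd x + wd y := by
  funext p
  simp only [wd, Nat.testBit_xor, Pi.add_apply]
  cases x.testBit (gix p) <;> cases y.testBit (gix p) <;> rfl
theorem wd_zero : wd 0 = 0 := by funext p; simp [wd]
theorem support_wd (x : Nat) : support₂ (wd x) = GE.fs x := by
  ext p
  rw [Enum.mem_fs, support₂, Finset.mem_filter]
  change _ ↔ x.testBit (gix p) = true
  by_cases h : x.testBit (gix p) = true <;> simp [wd, h]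
theorem support₂_inj {α : Type*} [Fintype α] : Function.Injective (support₂ : (α → ZMod 2) → Finset α) := by
  intro v w h
  funext p
  have : p ∈ support₂ v ↔ p ∈ support₂ w := by rw [h]
  simp only [support₂, Finset.mem_filter, Finset.mem_univ, true_and] at this
  revert this
  generalize v p = a; generalize w p = b
  revert a b; decide
theorem wd_cd (w : GolayPt → ZMod 2) : wd (GE.cd (support₂ w)) = w :=
  support₂_inj (by rw [support_wd, GE.fs_cd])
theorem exists_wd (w : GolayPt → ZMod 2) : ∃ x < 2 ^ 24, wd x = w := ⟨_, GE.cd_lt _, wd_cd w⟩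
theorem hammingNorm_eq_card {α : Type*} [Fintype α] (w : α → ZMod 2) : hammingNorm w = (support₂ w).card := rfl
theorem hammingNorm_wd (x : Nat) : hammingNorm (wd x) = pop24 x := by
  rw [hammingNorm_eq_card, support_wd, card_gfs]
theorem mem_GC_iff_wd (x : Nat) : GE.fs x ∈ GC ↔ wd x ∈ golayCode := by
  constructor
  · rintro ⟨w, hw, h⟩
    rw [← support_wd] at h
    rw [← support₂_inj h]; exact hw
  · intro h; exact ⟨_, h, support_wd x⟩

/-- xor of the list entries selected by the bits of `a` -/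
def xsum (l : List Nat) : Nat → Nat :=
  List.rec (motive := fun _ => Nat → Nat) (fun _ => 0)
    (fun b _ ih a => Nat.xor (Nat.mul b (Nat.mod a 2)) (ih (Nat.shiftRight a 1))) l
theorem xsum_cons (b : Nat) (l : List Nat) (a : Nat) : xsum (b :: l) a = (b * (a % 2)) ^^^ xsum l (a >>> 1) := rfl
theorem xsum_xor (l : List Nat) (a b : Nat) : xsum l (a ^^^ b) = xsum l a ^^^ xsum l b := by
  induction l generalizing a b with
  | nil => exact (Nat.xor_self 0).symm
  | cons c l ih =>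
    rw [xsum_cons, xsum_cons, xsum_cons, Nat.shiftRight_xor_distrib, ih, Nat.xor_mod_two_pow (n := 1)]
    rcases Nat.mod_two_eq_zero_or_one a with h | h <;> rcases Nat.mod_two_eq_zero_or_one b with h' | h' <;>
      simp [h, h', Nat.xor_assoc, Nat.xor_left_comm]
theorem xsum_ind (P : Nat → Prop) (h0 : P 0) (hx : ∀ x y, P x → P y → P (x ^^^ y)) (l : List Nat)
    (hl : ∀ b ∈ l, P b) (a : Nat) : P (xsum l a) := by
  induction l generalizing a with
  | nil => exact h0
  | cons c l ih =>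
    rw [xsum_cons]
    apply hx _ _ _ (ih (fun b hb => hl b (List.mem_cons_of_mem _ hb)) _)
    rcases Nat.mod_two_eq_zero_or_one a with h | h
    · rw [h]; exact h0
    · rw [h, mul_one]; exact hl c List.mem_cons_self

/-- a basis of the code, systematic on the points `0, …, 11` -/
def gB : List Nat := [0xc75001, 0x49f002, 0xd4b004, 0x6e3008, 0x9b3010, 0xb66020, 0xecc040, 0x1ed080, 0x3da100, 0x7b4200, 0xb1d400, 0xe3a800]
def gGens : List Nat := [0x5335f, 0xa66be, 0x14cd7c, 0x299af8, 0x5335f0, 0x266be1, 0x4cd7c2, 0x19af85, 0x335f0a, 0x66be14, 0x4d7c29, 0x1af853, 0x35f0a6, 0x6be14c, 0x57c299, 0x2f8533, 0x5f0a66, 0x3e14cd, 0x7c299a, 0x785335, 0x70a66b, 0x614cd7, 0x4299af, 0xffffff]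
def gParity : Nat := joinL 3072 [0xeb62c3a2965c3fdf88762b17855420cca0bf51e96b181df4705b7039afefa4e63bed12a41e6d9357990ccad0d88324475d09a514fd3a89b4eec04071333f467acbd9e7820dae7692c630168fc489128d5d5b79c2a806f5e1f26a7cbbbe354f2107ac0f4e5890d311449ae5db699aec206e73bd27a7f4d3389c95bcd561234828f701dc68f2a35fbb57c0261e146fea8bb1c769f833f6657a222c8ebddff18a9605150b4cc142b85e2afeda630a45fe4391b7b70e44c8390d3ca6907572d981edf5b32ebc47b1210e6568fafa9b85cdd271524f388606cc196e8a9d277e02ba37d6f3c34900bc7e4948e1d401359df5aa43d8480a2cd7976503de919c2deeab641a34f953e0b0a77fd8e1fb9115640c5cb045a82fb6d718ff2387626a532b9ecc197de250897dcdc0a9843436774b013ebf9ea3f64aea02d5824451cbb0ce56f91a1f0d85ec72b2a5862d38cff9713b66af1684e6e21b7babcf325f50c1206788d4f8159d2c5c69b3342f377ddba8e0927ca966e35a19d413ed4b8ea49fc75000,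
  0xd6c1199f3586027c524b88cdb8f7faf103656c4ab125be2e4df8aa040c359945e1d0b17e23ce496a3ad6f77302be879d60aa7f295ee0b41734fde3ab0e9c9c476803da21d793d548fb93ccb267532f2e8766da1895a52fdc51b041186408ecfb3a0fd573fb4aeeb29ea746015439361dcda980847dc970e2a13666e8c2f9758b2d3c7fb2cf008586f41a1bbdce5249518c64b3c5902c58d9f8112d67e25250aba6cf36ef1b7f1b84175d005ea99fc3e04b8a14d4796be3309f7cadd6a8e42237c810f481e46b1cadbf555920a62617efd288729b5c3b6fc35329471addd887940cce60933d1fa474eb3be9a2efa056707e7b92378f0daac6d9e33246104d7159b9eec4f03a8d04a5e54221acb6be31ff6a780bf58b74c2c2805d5fc989163d1624de386d2aa7f06373b997ec4ae8db031c449e5590d7a10fbfe78bf613146b5ac022ae5fd1d1689825f7056c234c98bc92b55edb41c14608150ffc8afc83bdb57722283ef661ca69098ced407872dd31a694c53967ba0e2e4e91b30745faf3da,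
  0x902577d9d1e844983c0d6ca3fe1394b7e70b2aaedf635a400b1cc442e85bdfa18f965510652a272cdeb8b1976cf863f3264e116fba8ef2f35abb07c54878f2018c6d9cc5b9d53126bd77a2f4833d69cae9203e76d341419ab5de07fc0a4e08957cebbb351f24a856f0e1a26f12dd585b29c7c660138f948ce7d208ae2697336f437a9bdc89e4ebc010745d59a014ad3fca80dd8374421e3d9657c909a4b63eed42a1700b7539ffea51b96e184df1850425ccf0ba3f8f8d767b12eb32c6a2c6598ef49ac700055a49d113bd4ee0c279a936e6347f327d8bad15cd295c39b6c170628884fd7bfbca320f55af4681e6b21e389ffc716b63ec22b7a5d62856a91f1f5d80821454cbe0cba3a64fea52d0771b043eef9bcd90ac846433192de750d978623a562bcec9b6871dff73820c0cb545f82ad8b1fe914561f903e5b0f77a2dbeae644a31973506dec19943884d0a7cd2d451309da5af00ec7b4918e4ba67d3f3934c6eda98272e074f6883069c1c9bd5c8d22157215e6068aafff5e32bbc17b4,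
  0xad86ade47232793be630cf79c3b04e8a44d1170d055ef99a36bf1e7f4b81e20255abf6ca5889fd117d628c34b6c5c0291bedcb521954cf508086a41f75db283c2fb7a16663e892fc80d478c920e75469331d9daceee29ba716043a5fd073ab4f41486108bcfe95f52adc01b52f7e82668a1dfbc3c9b23756da71d293854d0ecc99473806b44731fdb3ae60fa7a290ee5f72307bed798239e4c6a6ad39915e4d0e17b4da8af045c306c1ab425ee2bb8a7fff15360022c574bd8c8d6911c9f6583b35740faa3df67ea0b2e1e94dd61a394953c09dce8402877286ef3619a6cfcd3b8b527274658100fac8f92e55bdb11c4053c264cc8b9d1816d9875f26b0ac522fe5abfb78ef643119e0595d7f10a4ab8de034c41f03376b9c7e9248e3d6d7aa25f998c166d138b24c7c2d05831af6f785bf0e51224ace6bbc4a03f8d54a0101d7459e9ebaa96dce362437e2b9737df08e9f2eaa006753d4fa174bb3e87c409ce30965379421a8ddd72cb593b3fc6a67612ef828d1cfdba550925c840f181b46e,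
  0x5ab9de134d418e0495c7f00a348f3d7d7ba2e03276a9c6e9c1806d8874f2153d265cc9b9afb68ee642117b0bc532ff5aecd2b8a52627386ff3719b6c82e45bcb10c45659101fad8f77eb0b3e1f94a35640eaa2df19dde8502977cd60a384943cb67712ff838d62ca592b3ec6d841f191b56e0cfcba4508252d4ea164ba3ef9f3eab007754378420a8cdd97c509de3196001c7449e8ebd4a13f9d55a06e2a9727de08ba97dcf363439b25c7d2d1584f988c066c13f51324bce7bb21ae6f685af04468330d9cac90d578d921e72a5ed063aa4ffee39bb71704df518096a51f0beccb421854b16763f893fc65da282c2eb7f20355bbf7ca26be1e6f4a819c35b6d5c1294888fd017c62693ae620ce79bd87adf47332070c054ef89ad3b14e9a45d1a8a6ffe152607c1bb435ef2bc6901c8f6483122d575bd9c8339f4c7a6bd3e72207aed6985da9af145d308914e4c0e07b1ecd99573906ca70d283844d70fb7a390fe5a44631edb2ae85f42acc00b551496118bdfeebc2c9a236563f7f82768b1d,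
  0x671a042eee9bb3a74ffa53d0092ce740d878dd91ac946533fc23b7b5d728289efc616a63921554dbe1cb46a81f0f5c80d171629885fd05cc294c38b6bf4781f6b31e6bfaca220e554a48d103bc4e9ef59ad70105247e326d8aadf0c379b937e68bd4c8c220575f6983169d1ce5e22bac16b4315f6078abff10ed7b5919e4c450308da4af7edb98372f07aa66d3e3924c3dbfae744b31e902e5a0f67a53894d1a7dd2873406cec099a6861def7282723b563bcfc9c8b0fe8144611c0db555f92a79cbe9303f76ad76a2e4823d17fd0a5e0995c340418ab4dee2f25aab06c5364f117fbb8e8cc4b9c530265879f2118d6dcfa08f8654101b1dc452e95ba1966ce862f3752b273cdfb854993c1d6da3802477c9d0e83aafdf735b40ee1294a7e60b950525dcf1ba41b86e084cf1fb33c6b2c7592f8e8d667a120e3c9647c809da81dd937542600a7529feeab4b73efd43a1236e436a9adcf7d308be27974d58a004ac3f99e5ebd01174b857f0f1a36f6ceabb251e24d661139f958c02dc584b28c7,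
  0x21fe6a680af5f54321bcb7be4fc889063c169b75c2d2815dbac7d9f333466e7a92278e0dd4f13a9d05a5004c7149b8ee97950cde61934328470adcd8f9a3efb057702d1ea464ea3b0cacbf455820d811f491e56b629a5c2b6ec3b62717ffd388cd30a684c439198ded507972a30645eaf2da77bb0e3e4f915609151ffd8a82b45ecb40c1383ff671cb69ec82bda576227b5bc032af5fafe68be61214156d235c99bcc1d0688824f7e06273a996ec34df387d2ba78e5490c7a00f5ae9db131d443f2f8776db18eb92cca2665351196418edfb85a42fcc50b0a41634ede2ab70ab7f395fe0ca20d783d4481e9d9c5769038944e1c0b07e5df9aa140d35e77202ae869d33cf497a3bd6127d525b89cdc6c0198f34867c4bb135bf2ea8f6fae10265d3e14b9a15d4075c004ea89fbdd7a8f42337696ae3209e7c48d8f8012c679c65b3d5912c26ee1b6f1a84f25350bba7cf658a2d2c7eb2b13766f8c3f90bbcce424851df018596f51afeb39eb747012a0ed563fa4a90857dd971e24438360dcca9,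
  0x1c5db055a92fc8e0fb811464726b533b9fcca6d618ef2287876403ce909c53d9481a2dd7e952e0a0a67f3defab741b34aa36d6e3c2497e8b9d377f02c400358df4aa10bd7e5949e1310f6578fbfae5b22eac46b15f398616cd198b84cdc27052f0937cb967e3242e376ddaa89ea59fd751004a18d403ec4b6baacf225e50bf1784f6e31b059c2c4c68b3d1216798d5f846f81a0f0c85924551dbb1ce28cef9613a66fc73b2b5872dddc1a9943536097ce240887db3f74afa03d5674a012ebe9e028c5d4b78c2d631169fc5896cbabe254e21b807f5f1f36a99b5eed041714d08a504fc3af7830dbe7792233e466acad9b4e73bfd13a4605a7029aeefdad1d89325470e6c9347980c2fde88662a17fb63c3b2975c41e86b081cf4955520dca1bfee4291a7b60e3affda730b45807472c980ed54c9391d3da6757b223c8fbda1c669e832f61b4dc152b95ecff08a8604155829f711dd688c94bcc56023361f147feb8be2a25fab56c0c310448ae4db17ad0f5e5990ad26a7e4d238799bec306f73,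
  0x8ccf9413866dc71b295852d66fa1a2f0e85b24751fbb3ce93f54ada01d54748010ebc9efdc3a9b43736297ee2608a7dbea79ff753006a1ad423ee4bd0917c9965e3042c374dd8a8259e2c6c6ab3f12367b8d7f84ba8cf025c509f1584d6e11be40235adf6aa30bf7e794be18a34d6c3c0495e899d177d027f3b8636cf19ab86cde27252110d6558f9fac5b02e8c44b15269531b9dcc86d418cf20873c5fb075ab2fe8e2fba11664c950e080a47f1dedab541934a76603ee929c73db483a2fd7161d145fe98bc2a05f8b54c0782bf731df68ac96bce562238d24a7c4d0385999ec106d73e31244aae6db37af0f7e5b90a07672e982ed74cb393d3fa6ce409187b40e1afdda5309453b4fc172bb5eeff28aa606155579221c8dbd81c469c830f6fad3d8b327472e6e93679a0c94e53bdd11a440587009acef61ea6b281ef4b55720fca3bf0fdc88462817db61c392955c4cb8be054c219805f5d1f16a228e5d6b7ac2f63316bfc789d7810d9e7592033c464ac8d9b9b7eef043716d0aa524fe3a,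
  0x356f237c9bbce1d268a826f75b59c012ad5f8fe48bc61014ae5690e7a20f7aebdb331f44c060738994ec14dd385d29a7830445caf0da57b90e1e4d91ed32a6a4c639398fed707b72183df651c969cc80bd857422760b153fff8aa2b65eeb42c1d9a1ef9055700d1ca444e83bb7970cfe6393632a472aded842985c0b6cc3962517dfd1882caebf655a20f813f4b1e76b6fca89263e16bb77c2f2835d01fc6a4808f5d541219cb5bef4f33abd07a5204e7169baee9ac5d9d331464e7892078c0d2bbece624a51ff0385b6f71a45882d0c7cb2913566d8c1f9b0877df973e2643a362dcea9deb19e9745010a0cd543f84a9dd5a8d421374968e3009c7cf3e34bba17d4275e006eaa9f06ec1b4f1884d251509ba5cf68daf8212e67bc67b3f5932cc770028e849d13cd495a39d6a946e1e0b27e7dfbaa340f355c49b115bd2e88f4fac10065327f527b8bcde6c219af3686711b6438effba5a62fec52b01f2d8756d918cb90cc826453ea22d7a3d6483e9f9c776b03841434cde0ab50a97f195de0,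
  0x738b4d3a7fd2a73606eec2991dbdae544931c900e580f47ae8b2fea146613c0fb575fb2a86841dcf70825239561bcdc9c5e02b8c14b4115d6058a9ffabd6c8e222577f6b83369f1c5ed998172d078a64d3c3904c30ef7b791be4e45230ada6af9f4581d6b11e4bf8ca020c55f17362b887fd25ce296c3ab6047c324d88add0c1799935e66a4ad123be4ebef79af70305292ee760da78fd93acb467334718040eec9b93a54fda51d0b21754fbe3cb66aa1f2f5e80dc21b795d528089cfc4168636d5aa024ae3fb9e7ebf01374036c434a98dcd7d1089e2597f66313bf978c22de586b2ac79855f0d1a16f4ce8bb051c24db31c692c5590f8c8d467812b50725fcf3ba61ba6e284ef140087509fcea94b53edd41a12e3e9667ca09fa83ddb3774281946cc860f35529271cddb8efa28fa656103b1fc472eb5b1aaddf535940ce109487e40b749b3c3d6fa3a02677e9d2e837ff0a7e0b95e34241aab6de59c9e9103d768d74a2c4803dacc6b9e53226787bf2318f6dc2f05a8b04c5164d115fb98e,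
  0x4e289707dc089a95dcd36143201e7469eaebf4a33fbd57a0d511249ce5bb01ac6f4858f0bb27c7f2d3586f9a8c266e13f843f1b1b76e2cfeba650a25967512df818d42c8590b3cc6637a422a8eddb7c709fe33960d4ca144b83ed9f1ea900575a2e65beb12c4765b103faf8fccd0b8852427186df351996c39dfe8702b77ed62a3a4963c57e90b1e1d94835440caa0df148d3d5d79a2c0307689c4e97abbde334f41ae0695e7f20a8fb48ec640115b09c512fd5ae1826da876f2353f267ccbb950f97a190de5844431cdb0ae3ecf99773b06ea72d2a3864dcbc0c98234561f7d8256891da5f62aec02b5714b6138bffee6921caf6683322f577bdbc888a4ffc150605c19b415ed2b7dabaf345f30a916e4e0e27b139d4c5a69d3c720078ed498bc37b6f5c329688afd217e62d201559bf5ca06bc1e4f4881270e056efa9af3b34eba47d14938e600cc799d85add471320a5cd043a84fdee19b971504646a332d9eacb0d778f923e7916563d891fc45d8280c2cb7ff5380b6a71f2beecb621a54,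
  0xb917e4f0e37b6daaaf245e30d721079ed598039c4c4a68d3222e576bdac8f6931cbf67834c18b405ec2b98a5ffd151600f7c8246881ddbc1c9923556614a6128befeb5f72afc03b5944531ddb1ae40f87a090ce5fa73d2b3874d2ece99673a0655d9281c2db7816463c890fc3befcb721b54ef5280a6a61fcee09b8714041a5dd053a94fa0d678e922e7746b333d9face3b24eaa46d1370f057efb9a8d84adc470325939e610cd79788bfd317f62ac36b6e5c22916bd1e5f4981c200558bf4caa7c609ee3296737b423a8fddc9f0ea8004751d4da154b93e3cffba750b25e842f1a1b66e52c9591b3dc6867412cf808d11ad6f5859f0c510248ce4bb7f9b8c366f13ab26c7e2d2588a94dcc360435e299717dd08e4a23fad56a0301f7479ebeb4b08c502fc5a9fb58ed64111253e266ccab9f1836db877f2d0317699c5e9048c3d4d78a2be0795f7f30a6abade234e41fd63a3b4973c29dee8602a77935540daa1df47e80b0e1c94665a102fae8fb2e75bfb13c4086cf341986cdcd1b8952527,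
  0x84b43ecd40a150097519fdeaea82dda376423e3f9677cb091f8d8d567912cb30c682c45971bb6e384ff1a50625ecf2ba32df587b2bc7e66213af968c5ce9bb151d248854f0c1a06fa9e6ebe012747d5ba034af3fc7d0088e2497136d435a99dc687af2218e6dbcc7b9f53326064c114fb88ed2f15a9b05c5f34341bab7de27fe0a6e0a959d75a2d4813d49c8e9003c76de119497e50b0aacdf435840b02777f9d3e8649a3c2d6ea34528270cdcb891956cd861f32b1ec462ea5bffa38fb657109a65d3d3914c4ed898072c07f45330bda7af20ee7b691ae4015c6048a8ffd5e12b9c15b46f6a83269e1cbbd7c8f223572c0eb565fa2af8b3feb147614238560bccc996851ddf7182b73706fec399638a4d2a7ed2d901e590f57a0dbcae44483176ab1f3f5f80a21654ebe2cb189dfc516963cc20b785d428ed92aca46633392fe770db7883a44fca50d05719041eed9bc0c0798934e6147d325d89adaef69ae702057a4bd133bf4e5bf9ca120d558f4481c6b01e35cf297c3bb6e17262a886fd,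
  0xc250508ba4cf16ed1b5f1984ac66b3e5922c78dbf8312f675969e3109d7c8dd4a8c42037375f007eab9fe3e24baa16d4743b363dcfa9a0867de972e21a0dd553f94aceb09e874401ef0285a6f61a3bbfce724b51813466c8c0f955892d1c7db22e9e9c676a03fa23d7b3d74840a87f095ce0941534dde1abb5a72ffc53b0611a6428eefbdb91cc9265530f2c8746d81898f5fad101654c48b105bc2ef6c319bf3786227e526b8acd03cc494a38d6d771029e859d6dfaaa240e35b947e1f0b37edc81bd957522083cf641c869b2b75efb43c1660a152ffe8a47b80e0e4c91930545daf1da298eed607a72fd33a6b4c7396aeadb231e44be5790f7a30f04dc384d28a7d061739995ecf1d368b827f7256e236c9abc9fe58bd611144b58c002ac5f304f7179bbeee4f23aad06a55e7992178d0d8ac4d9c33046ab76c2e2825d7fcb89363f16c540218cb4be11fd6a5809f5862417cfd08852995c1b6dc3e812f4a1e66b3cafbf755b201d1da454e93bc9a0ef805470732b473adfd8a7960cee6293,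
  0xfff38ab607152b4ec162ba5e91c569d831f64578220c8cbd64ca392d3ea6b07772f983ed0afcda430845de419197b50e4998ec006c739d25a7d4d13827ae0f6e5a90f31344bae7dbd2a15f9b55c0061c144fe88bbc97bcf56323682af721de68133d465ac9d9c7800d8e74927d0ba534ff3aa9b6eee042718804f5c1f06a5cb9be154d21e63216afc689328f5d7b7bc2a55620eca2bf71eb6b381ff4cb60c382945c1fdd885629173e6f93779b0cead2d8a3264750597019adef84e43bcd10a4e12267a8d6f8359f2c7c6bb38f1484c6e01b5ba9cf125d507a1bd433ef4baea69fe75200142d375dd9a8c0907c8964e35749011ebd9e83f44aca00d5397fe2708b7dedc2a9a43636cc70b285842d18cdf9513966a24651ebb2ce76fb1a3f0f850decab441834d951e090a57f63da482a2ed7b76703fe939c96d518df21874268530b9cccf8e3fbb117642c5eb065aa2fbb87cdf273526f3a8626ce19d5b12e9c45b1010c6548f8fa20be7e694ae1f40335bdf7aa4e889d077c029a35d6d3c149]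

/-- the code word with information bits `a < 4096` -/
def enc (a : Nat) : Nat := Nat.lor a (Nat.shiftLeft (ent 12 gParity a) 12)
/-- membership in the code -/
def inC (x : Nat) : Bool := Nat.beq (enc (Nat.land x 4095)) x

theorem enc_chk : allN 4096 (fun a => and' (Nat.beq (enc a) (xsum gB a))
    (and' (Nat.beq (Nat.land (enc a) 4095) a) (Nat.ble (enc a) 16777215))) = true := by decide +kernel
theorem enc_eq {a : Nat} (ha : a < 4096) : enc a = xsum gB a := by
  have := (allN_iff _ _).1 enc_chk a ha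
  simp only [and'_eq, Bool.and_eq_true, beq_iff] at this; exact this.1
theorem enc_and {a : Nat} (ha : a < 4096) : enc a &&& 4095 = a := by
  have := (allN_iff _ _).1 enc_chk a ha
  simp only [and'_eq, Bool.and_eq_true, beq_iff] at this; exact this.2.1
theorem enc_lt {a : Nat} (ha : a < 4096) : enc a < 2 ^ 24 := by
  have := (allN_iff _ _).1 enc_chk a ha
  simp only [and'_eq, Bool.and_eq_true, Nat.ble_eq] at this
  have := this.2.2; omega
theorem and4095_lt (x : Nat) : x &&& 4095 < 4096 := lt_of_le_of_lt Nat.and_le_right (by norm_num)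
theorem inC_iff {x : Nat} : inC x = true ↔ enc (x &&& 4095) = x := beq_iff _ _
theorem inC_enc {a : Nat} (ha : a < 4096) : inC (enc a) = true := by rw [inC_iff, enc_and ha]
theorem inC_iff_exists {x : Nat} : inC x = true ↔ ∃ a < 4096, enc a = x :=
  ⟨fun h => ⟨_, and4095_lt x, inC_iff.1 h⟩, fun ⟨_, ha, h⟩ => h ▸ inC_enc ha⟩
theorem lt_of_inC {x : Nat} (h : inC x = true) : x < 2 ^ 24 := by
  obtain ⟨a, ha, rfl⟩ := inC_iff_exists.1 h; exact enc_lt ha
theorem inC_zero : inC 0 = true := by decide +kernel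
theorem inC_xor {x y : Nat} (hx : inC x = true) (hy : inC y = true) : inC (x ^^^ y) = true := by
  rw [inC_iff] at *
  rw [Nat.and_xor_distrib_right, enc_eq (Nat.xor_lt_two_pow (n := 12) (and4095_lt x) (and4095_lt y)), xsum_xor,
    ← enc_eq (and4095_lt x), ← enc_eq (and4095_lt y), hx, hy]
theorem inC_ind (P : Nat → Prop) (h0 : P 0) (hx : ∀ x y, P x → P y → P (x ^^^ y))
    (hl : ∀ b ∈ gB, P b) {x : Nat} (h : inC x = true) : P x := by
  obtain ⟨a, ha, rfl⟩ := inC_iff_exists.1 h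
  rw [enc_eq ha]; exact xsum_ind P h0 hx gB hl a
theorem enc_injOn : Set.InjOn enc {j | j < 4096} := fun a ha b hb h => by
  rw [← enc_and ha, h, enc_and hb]

theorem qrWord_eq : ∀ t : ZMod 23, qrWord t = wd (gGens.getD t.val 0) := by decide +kernel
theorem one_eq_wd : (1 : GolayPt → ZMod 2) = wd 16777215 := by decide +kernel

theorem gGens_mem : ∀ b ∈ gGens, wd b ∈ golayCode := by
  have h : ∀ b ∈ gGens, b = 16777215 ∨ ∃ t : ZMod 23, b = gGens.getD t.val 0 := by decide +kernel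
  intro b hb
  rcases h b hb with rfl | ⟨t, rfl⟩
  · rw [← one_eq_wd]; exact Submodule.subset_span (Or.inr rfl)
  · rw [← qrWord_eq]; exact Submodule.subset_span (Or.inl ⟨t, rfl⟩)

theorem wd_mem_of_inC {x : Nat} (h : inC x = true) : wd x ∈ golayCode := by
  have h0 : wd 0 ∈ golayCode := wd_zero ▸ golayCode.zero_mem
  have hx : ∀ x y, wd x ∈ golayCode → wd y ∈ golayCode → wd (x ^^^ y) ∈ golayCode :=
    fun x y a b => wd_xor x y ▸ golayCode.add_mem a b
  refine inC_ind (fun x => wd x ∈ golayCode) h0 hx ?_ h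
  have : ∀ b ∈ gB, ∃ a ∈ [0x8006a9, 0x118, 0x800499, 0x578, 0x8006ba, 0x800797, 0x8005cd, 0x7d0, 0x543, 0x65, 0x800663, 0x800625], b = xsum gGens a := by decide +kernel
  intro b hb
  obtain ⟨a, -, rfl⟩ := this b hb
  exact xsum_ind (fun x => wd x ∈ golayCode) h0 hx _ gGens_mem a

theorem exists_inC_of_mem {w : GolayPt → ZMod 2} (h : w ∈ golayCode) : ∃ x, inC x = true ∧ wd x = w := by
  induction h using Submodule.span_induction with
  | mem w hw =>
    rcases hw with ⟨t, rfl⟩ | rfl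
    · exact ⟨_, (by decide +kernel : ∀ t : ZMod 23, inC (gGens.getD t.val 0) = true) t, (qrWord_eq t).symm⟩
    · exact ⟨_, by decide +kernel, one_eq_wd.symm⟩
  | zero => exact ⟨0, inC_zero, wd_zero⟩
  | add v w _ _ a b =>
    obtain ⟨x, hx, rfl⟩ := a
    obtain ⟨y, hy, rfl⟩ := b
    exact ⟨_, inC_xor hx hy, wd_xor x y⟩
  | smul c v _ a =>
    have : c = 0 ∨ c = 1 := by revert c; decide
    rcases this with rfl | rfl
    · exact ⟨0, inC_zero, by rw [zero_smul, wd_zero]⟩
    · rwa [one_smul]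

theorem mem_GC_iff {s : Finset GolayPt} : s ∈ GC ↔ ∃ x, inC x = true ∧ GE.fs x = s := by
  constructor
  · rintro ⟨w, hw, rfl⟩
    obtain ⟨x, hx, rfl⟩ := exists_inC_of_mem hw
    exact ⟨x, hx, (support_wd x).symm⟩
  · rintro ⟨x, hx, rfl⟩; exact (mem_GC_iff_wd x).2 (wd_mem_of_inC hx)
theorem fs_mem_GC_of {x : Nat} (h : inC x = true) : GE.fs x ∈ GC := mem_GC_iff.2 ⟨x, h, rfl⟩
theorem fs_mem_GC {x : Nat} (hx : x < 2 ^ 24) : GE.fs x ∈ GC ↔ inC x = true := by
  refine ⟨fun h => ?_, fs_mem_GC_of⟩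
  obtain ⟨y, hy, h⟩ := mem_GC_iff.1 h
  rwa [← GE.fs_inj (lt_of_inC hy) hx h]
theorem wd_mem_iff {x : Nat} (hx : x < 2 ^ 24) : wd x ∈ golayCode ↔ inC x = true := by
  rw [← mem_GC_iff_wd, fs_mem_GC hx]
theorem mem_GC_iff_enc {s : Finset GolayPt} : s ∈ GC ↔ ∃ a < 4096, GE.fs (enc a) = s := by
  rw [mem_GC_iff]
  constructor
  · rintro ⟨x, hx, rfl⟩
    obtain ⟨a, ha, rfl⟩ := inC_iff_exists.1 hx
    exact ⟨a, ha, rfl⟩
  · rintro ⟨a, ha, rfl⟩; exact ⟨_, inC_enc ha, rfl⟩
theorem fs_enc_injOn : Set.InjOn (fun a => GE.fs (enc a)) {j | j < 4096} := fun _ ha _ hb h =>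
  enc_injOn ha hb (GE.fs_inj (enc_lt ha) (enc_lt hb) h)

/-- counting code words with a property -/
theorem ncard_GC (S : Set (Finset GolayPt)) (p : Nat → Bool) (hS : S ⊆ GC)
    (h : ∀ x, inC x = true → (GE.fs x ∈ S ↔ p x = true)) :
    S.ncard = cnt 4096 fun a => force (enc a) p := by
  apply ncard_image_cnt fs_enc_injOn
  intro s
  simp only [force_eq]
  constructor
  · intro hs
    obtain ⟨a, ha, rfl⟩ := mem_GC_iff_enc.1 (hS hs)
    exact ⟨a, ha, (h _ (inC_enc ha)).1 hs, rfl⟩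
  · rintro ⟨a, ha, hp, rfl⟩; exact (h _ (inC_enc ha)).2 hp

/-- a check over all code words -/
def allC (p : Nat → Bool) : Bool := allN 4096 fun a => force (enc a) p
theorem allC_spec {p : Nat → Bool} (h : allC p = true) {x : Nat} (hx : inC x = true) : p x = true := by
  obtain ⟨a, ha, rfl⟩ := inC_iff_exists.1 hx
  simpa using (allN_iff _ _).1 h a ha

theorem mem_octads_iff {s : Finset GolayPt} : s ∈ octads ↔ s ∈ GC ∧ s.card = 8 := Iff.rfl
theorem mem_dodecads_iff {s : Finset GolayPt} : s ∈ dodecads ↔ s ∈ GC ∧ s.card = 12 := Iff.rfl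
def isOct (x : Nat) : Bool := and' (inC x) (Nat.beq (pop24 x) 8)
def isDod (x : Nat) : Bool := and' (inC x) (Nat.beq (pop24 x) 12)
theorem isOct_iff {x : Nat} : isOct x = true ↔ inC x = true ∧ pop24 x = 8 := by simp [isOct]
theorem isDod_iff {x : Nat} : isDod x = true ↔ inC x = true ∧ pop24 x = 12 := by simp [isDod]
theorem fs_mem_octads {x : Nat} (hx : x < 2 ^ 24) : GE.fs x ∈ octads ↔ isOct x = true := by
  rw [mem_octads_iff, fs_mem_GC hx, card_gfs, isOct_iff]
theorem fs_mem_dodecads {x : Nat} (hx : x < 2 ^ 24) : GE.fs x ∈ dodecads ↔ isDod x = true := by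
  rw [mem_dodecads_iff, fs_mem_GC hx, card_gfs, isDod_iff]
theorem fs_mem_octads_of {x : Nat} (h : isOct x = true) : GE.fs x ∈ octads :=
  (fs_mem_octads (lt_of_inC (isOct_iff.1 h).1)).2 h
theorem fs_mem_dodecads_of {x : Nat} (h : isDod x = true) : GE.fs x ∈ dodecads :=
  (fs_mem_dodecads (lt_of_inC (isDod_iff.1 h).1)).2 h

theorem weights_chk : allC (fun x => force (pop24 x) fun w => or' (Nat.beq w 12) (or' (Nat.beq w 8) (or' (Nat.beq w 16)
    (or' (Nat.beq w 0) (Nat.beq w 24))))) = true := by decide +kernel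
theorem pop_of_inC {x : Nat} (h : inC x = true) :
    pop24 x = 0 ∨ pop24 x = 8 ∨ pop24 x = 12 ∨ pop24 x = 16 ∨ pop24 x = 24 := by
  have := allC_spec weights_chk h
  simp only [force_eq, or'_eq, Bool.or_eq_true, beq_iff] at this
  omega
theorem card_of_mem_GC {s : Finset GolayPt} (h : s ∈ GC) :
    s.card = 0 ∨ s.card = 8 ∨ s.card = 12 ∨ s.card = 16 ∨ s.card = 24 := by
  obtain ⟨x, hx, rfl⟩ := mem_GC_iff.1 h
  rw [card_gfs]; exact pop_of_inC hx
theorem symmDiff_mem_GC {s t : Finset GolayPt} (hs : s ∈ GC) (ht : t ∈ GC) : symmDiff s t ∈ GC := by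
  obtain ⟨x, hx, rfl⟩ := mem_GC_iff.1 hs
  obtain ⟨y, hy, rfl⟩ := mem_GC_iff.1 ht
  rw [← GE.fs_xor]; exact fs_mem_GC_of (inC_xor hx hy)
theorem empty_mem_GC : (∅ : Finset GolayPt) ∈ GC := GE.fs_zero ▸ fs_mem_GC_of inC_zero
theorem univ_mem_GC : (Finset.univ : Finset GolayPt) ∈ GC := GE.fs_all ▸ fs_mem_GC_of (by decide +kernel)
theorem compl_mem_GC {s : Finset GolayPt} (hs : s ∈ GC) : sᶜ ∈ GC := by
  obtain ⟨x, hx, rfl⟩ := mem_GC_iff.1 hs
  rw [← GE.fs_compl]; exact fs_mem_GC_of (inC_xor hx (by decide +kernel))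
theorem card_pt : Fintype.card GolayPt = 24 := GE.card_eq
theorem card_symmDiff_add {α : Type*} [DecidableEq α] (s t : Finset α) :
    (symmDiff s t).card + 2 * (s ∩ t).card = s.card + t.card := by
  have h1 := Finset.card_sdiff_add_card_inter s t
  have h2 := Finset.card_sdiff_add_card_inter t s
  rw [Finset.inter_comm t s] at h2
  rw [symmDiff_def, Finset.sup_eq_union, Finset.card_union_of_disjoint disjoint_sdiff_sdiff]
  omega
theorem ncard_octads : octads.ncard = 759 := by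
  rw [ncard_GC octads isOct (fun _ h => h.1) fun x hx => fs_mem_octads (lt_of_inC hx)]; decide +kernel
theorem ncard_dodecads : dodecads.ncard = 2576 := by
  rw [ncard_GC dodecads isDod (fun _ h => h.1) fun x hx => fs_mem_dodecads (lt_of_inC hx)]; decide +kernel
theorem ncard_GC_eq : GC.ncard = 4096 := by
  rw [ncard_GC GC (fun _ => true) (fun _ h => h) fun x hx => by simp [fs_mem_GC_of hx]]; decide +kernel
/-- two octads sharing five points are equal -/
theorem octad_eq_of_five {o o' : Finset GolayPt} (ho : o ∈ octads) (ho' : o' ∈ octads) (h : 5 ≤ (o ∩ o').card) :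
    o = o' := by
  have h1 := card_of_mem_GC (symmDiff_mem_GC ho.1 ho'.1)
  have h2 := card_symmDiff_add o o'
  rw [ho.2, ho'.2] at h2
  have : (symmDiff o o').card = 0 := by omega
  rwa [Finset.card_eq_zero, ← Finset.bot_eq_empty, symmDiff_eq_bot] at this
theorem even_card_inter {s t : Finset GolayPt} (hs : s ∈ GC) (ht : t ∈ GC) : Even (s ∩ t).card := by
  have h1 := card_of_mem_GC (symmDiff_mem_GC hs ht)
  have h2 := card_symmDiff_add s t
  have h3 := card_of_mem_GC hs
  have h4 := card_of_mem_GC ht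
  rw [Nat.even_iff]; omega

/-! ### membership in `M24` -/
theorem mem_M24_iff {g : Equiv.Perm GolayPt} : g ∈ M24 ↔ ∀ s ∈ GC, g • s ∈ GC := by
  rw [mem_stabilizer_iff]
  constructor
  · intro h s hs
    have h' : g • GC = GC := h
    have := Set.smul_mem_smul_set (a := g) hs
    rwa [h'] at this
  · intro h
    apply Set.eq_of_subset_of_ncard_le
    · rintro _ ⟨s, hs, rfl⟩; exact h s hs
    · rw [Set.ncard_smul_set]
    · exact Set.toFinite _
theorem smul_mem_GC {g : Equiv.Perm GolayPt} (hg : g ∈ M24) {s : Finset GolayPt} (hs : s ∈ GC) : g • s ∈ GC :=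
  mem_M24_iff.1 hg s hs
theorem smul_mem_GC_iff {g : Equiv.Perm GolayPt} (hg : g ∈ M24) {s : Finset GolayPt} : g • s ∈ GC ↔ s ∈ GC :=
  ⟨fun h => by simpa using smul_mem_GC (M24.inv_mem hg) h, smul_mem_GC hg⟩
theorem smul_mem_octads_iff {g : Equiv.Perm GolayPt} (hg : g ∈ M24) {s : Finset GolayPt} :
    g • s ∈ octads ↔ s ∈ octads := by
  rw [mem_octads_iff, mem_octads_iff, smul_mem_GC_iff hg, Finset.card_smul_finset]
theorem smul_mem_dodecads_iff {g : Equiv.Perm GolayPt} (hg : g ∈ M24) {s : Finset GolayPt} :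
    g • s ∈ dodecads ↔ s ∈ dodecads := by
  rw [mem_dodecads_iff, mem_dodecads_iff, smul_mem_GC_iff hg, Finset.card_smul_finset]

theorem mem_M24_of_acts {g : Equiv.Perm GolayPt} {N : Net} (a : Acts 24 GE.e g N)
    (h : allL gB (fun b => inC (N.app b)) = true) : g ∈ M24 := by
  rw [← M24.inv_mem_iff, mem_M24_iff]
  intro s hs
  obtain ⟨x, hx, rfl⟩ := mem_GC_iff.1 hs
  rw [GE.inv_smul_fs a]
  apply fs_mem_GC_of
  refine inC_ind (fun x => inC (N.app x) = true) ?_ ?_ ((allL_iff _ _).1 h) hx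
  · simp only [Net.app_zero a.ok]; exact inC_zero
  · intro x y hx hy
    simp only [Net.app_xor a.ok]; exact inC_xor hx hy

/-- the network is valid and preserves the code -/
def m24chk (N : Net) : Bool := and' (N.valid 24) (allL gB fun b => inC (N.app b))
theorem m24chk_ok {N : Net} (h : m24chk N = true) : N.Ok 24 := by
  simp only [m24chk, and'_eq, Bool.and_eq_true] at h; exact Net.ok_of_valid h.1
theorem perm_mem_M24 {N : Net} (h : m24chk N = true) : GE.perm N ∈ M24 := by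
  have h' := h
  simp only [m24chk, and'_eq, Bool.and_eq_true] at h'
  exact mem_M24_of_acts (GE.acts_perm (m24chk_ok h)) h'.2
theorem acts_of_m24chk {N : Net} (h : m24chk N = true) : Acts 24 GE.e (GE.perm N) N := GE.acts_perm (m24chk_ok h)
theorem actsL_of_m24chk {Ns : List Net} (h : allL Ns m24chk = true) : ActsL 24 GE.e (Ns.map GE.perm) Ns := by
  apply GE.actsL_perm
  rw [Enum.validL, allL_iff] at *
  intro N hN
  have := h N hN
  simp only [m24chk, and'_eq, Bool.and_eq_true] at this; exact this.1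
theorem map_perm_mem_M24 {Ns : List Net} (h : allL Ns m24chk = true) : ∀ g ∈ Ns.map GE.perm, g ∈ M24 := by
  intro g hg
  obtain ⟨N, hN, rfl⟩ := List.mem_map.1 hg
  exact perm_mem_M24 ((allL_iff _ _).1 h N hN)

end
end H27
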