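import Cfsg.Agent.H27.LMat
import Cfsg.Agent.H27.MX
/-! Centralisers of elements of order 23 and 11 in the automorphism group of the lattice, outer automorphisms. -/
namespace H27
noncomputable section
open MulAction Cfsg Finset
open scoped Pointwise
attribute [-simp] Fintype.sum_option

def cy (N : Net) (k p : Nat) : Nat := Nat.rec (motive := fun _ => Nat) p (fun _ ih => force ih N.fn) k
theorem Acts.cyc {G Ω : Type*} [Group G] [MulAction G Ω] {n : Nat} {e : Nat → Ω} {g : G} {N : Net} (a : Acts n e g N)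
    (k p : Nat) (hp : p < n) : cy N k p < n ∧ g ^ k • e p = e (cy N k p) := by
  induction k with
  | zero => exact ⟨hp, by rw [pow_zero, one_smul]; rfl⟩
  | succ k ih =>
    rw [show cy N (k + 1) p = N.fn (cy N k p) from force_eq _ _, pow_succ', mul_smul, ih.2]
    exact ⟨Net.fn_lt a.ok ih.1, a.act _ ih.1⟩
def cyL (N : Net) (r p : Nat) : List Nat := mapL (fun k => cy N k p) (List.range r)
theorem mem_cyL {N : Net} {r p x : Nat} : x ∈ cyL N r p ↔ ∃ k < r, cy N k p = x := by simp [cyL, mapL_eq]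
theorem nth_cyL {N : Net} {r p k : Nat} (hk : k < r) : nth 0 (cyL N r p) k = cy N k p := by
  rw [nth_eq, cyL, mapL_eq, List.getD_eq_getElem _ _ (by simpa using hk)]; simp
def cenMChk (N : Net) (r q O : Nat) (Os : List Nat) : Bool := forceL (cyL N r q) fun A =>
  and' (and' (and' (isOct O) (Nat.ble (Nat.succ q) 24)) (refChk (orL A) Os 16777215)) (allN 24 fun p => or' (elemL p A)
    (forceL (cyL N r p) fun B => allC fun c => or' (not' (Nat.beq (pop24 c) 8))
      (anyN r fun k => not' (Nat.beq (Nat.land (Nat.shiftRight c (nth 0 B k)) 1) (Nat.land (Nat.shiftRight O (nth 0 A k)) 1)))))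
/-- self-centralising elements of `M24` -/
theorem Acts.cent_mm {g : MM} {N : Net} (a : Acts 24 GE.e g N) {r q O : Nat} {Os : List Nat}
    (hc : cenMChk N r q O Os = true) {σ : MM} (h : σ * g = g * σ) : ∃ i < r, σ = g ^ i := by
  simp only [cenMChk, forceL_eq, and'_eq, Bool.and_eq_true, allN_iff, or'_eq, Bool.or_eq_true, elemL_iff, Nat.ble_eq] at hc
  obtain ⟨⟨⟨c1, hq⟩, c2⟩, c3⟩ := hc
  have k : ∀ {τ : MM} {p : Nat}, p < 24 → τ * g = g * τ → τ • GE.e q = GE.e p → ∀ k,
      τ • GE.e (cy N k q) = GE.e (cy N k p) := fun hp u v k => by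
    rw [← (a.cyc k _ hq).2, ← (a.cyc k _ hp).2, ← v, ← mul_smul, ← mul_smul, (Commute.pow_right u k).eq]
  have hp := GE.ix_lt (σ • GE.e q)
  have v := (GE.e_ix (σ • GE.e q)).symm
  rcases c3 _ hp with c | c
  · obtain ⟨i, hi, c⟩ := mem_cyL.1 c
    refine ⟨i, hi, (inv_mul_eq_one.1 (Subgroup.mem_bot.1 (fixM_all ▸ fixM_le_of_refChk c2 (mem_fixM'.2 fun j _ b => ?_)))).symm⟩
    obtain ⟨l, -, rfl⟩ := mem_cyL.1 ((testBit_orL _ _).1 b)
    exact k hq (((Commute.refl g).pow_left i).inv_left.mul_left h) (by rw [mul_smul, v, ← c, ← (a.cyc i _ hq).2, inv_smul_smul]) l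
  · have o := (mm_smul_octads σ).2 (fs_mem_octads_of c1)
    obtain ⟨x, hx, u⟩ := mem_GC_iff.1 o.1
    have := allC_spec c hx
    rw [← card_gfs, u, o.2] at this
    simp only [not'_eq, Bool.or_eq_true, anyN_iff, Bool.not_eq_true', Nat.beq_refl, Bool.true_eq_false, false_or] at this
    obtain ⟨l, hl, w⟩ := this
    have z : x.testBit (cy N l (GE.ix (σ • GE.e q))) = O.testBit (cy N l q) := by
      rw [Bool.eq_iff_iff, ← GE.e_mem_fs (a.cyc l _ hp).1, ← GE.e_mem_fs (a.cyc l _ hq).1, u, ← k hp h v l,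
        Finset.smul_mem_smul_finset_iff]
    rw [nth_cyL hl, nth_cyL hl, (beq_iff _ _).2] at w
    · cases w
    · simp only [Nat.land_eq, Nat.shiftRight_eq, Nat.and_one_is_mod, Nat.shiftRight_eq_div_pow, ← Nat.toNat_testBit, z]

def sq8 (A : Nat) : Nat := force (Nat.add (Nat.sub A 8) (Nat.sub 8 A)) fun a => Nat.mul a a
theorem sq8_eq {a : ℤ} (h : -8 ≤ a) : (sq8 (a + 8).toNat : ℤ) = a ^ 2 := by
  rw [sq8, force_eq, Nat.mul_eq, Nat.cast_mul, ← sq, sq_eq_sq_iff_eq_or_eq_neg]
  simp only [Nat.add_eq, Nat.sub_eq]; omega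
def isSC (X : Nat) : Bool := anyN 24 fun k => or' (Nat.beq X (e8c k)) (Nat.beq X (e8n k))
theorem mem_SC_of_isSC {x : LL} (hx : sqNorm (x : VV) ≤ 64) (h : isSC (pv x) = true) : x ∈ SC := by
  simp only [isSC, anyN_iff, or'_eq, Bool.or_eq_true, beq_iff] at h
  obtain ⟨k, hk, h⟩ := h
  have b := bnd_of (e8_norm (GE.e k)).le
  exact mem_SC.2 ⟨GE.e k, h.imp (fun c => Subtype.ext ((bnd_of hx).inj b (c.trans (pv_e8 k hk).1.symm)))
    fun c => Subtype.ext ((bnd_of hx).inj b.neg (c.trans (pv_e8 k hk).2.symm))⟩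
def wl (lab : List Nat) (l : Nat) : Nat := cnt 24 fun i => Nat.beq (nth 0 lab i) l
theorem sum_lab {lab : List Nat} (h : ∀ i < 24, nth 0 lab i < 4) (f : Nat → ℤ) :
    ∑ i ∈ range 24, f (nth 0 lab i) = wl lab 0 * f 0 + wl lab 1 * f 1 + (wl lab 2 * f 2 + wl lab 3 * f 3) := by
  rw [← sum_fiberwise_of_maps_to (t := range 4) (g := nth 0 lab) fun i hi => mem_range.2 (h i (mem_range.1 hi)),
    sum_congr rfl (g := fun l => wl lab l * f l) fun l _ => by
      rw [sum_congr rfl (g := fun _ => f l) fun i hi => by rw [(mem_filter.1 hi).2], sum_const, wl, cnt_eq]; simp]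
  simp [sum_range_succ, add_assoc]
def fixVChk (lab : List Nat) (P : Nat → Bool) : Bool :=
  force (wl lab 0) fun a => force (wl lab 1) fun b => force (wl lab 2) fun c => force (wl lab 3) fun d =>
  allN 17 fun C => allN 17 fun D => force (Nat.add (Nat.mul c (sq8 C)) (Nat.mul d (sq8 D))) fun s => or' (Nat.ble 65 s)
    (allN 17 fun A => allN 17 fun B => or' (not' (Nat.beq (Nat.add (Nat.add (Nat.mul a (sq8 A)) (Nat.mul b (sq8 B))) s) 64))
      (force (pk fun i => nth 0 [A, B, C, D] (nth 0 lab i)) fun X => or' (not' (inL16 X)) (P X)))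
def labChk (N : Net) (r : Nat) (lab rep : List Nat) : Bool := allN 24 fun i => force (nth 0 lab i) fun l =>
  force (nth 0 rep l) fun p => and' (and' (Nat.ble (Nat.succ l) 4) (Nat.ble (Nat.succ p) 24)) (elemL i (cyL N r p))
/-- the vectors of norm `64` fixed by a coordinate permutation -/
theorem Acts.fixV {g : MM} {N : Net} (a : Acts 24 GE.e g N) {r : Nat} {lab rep : List Nat} {P : Nat → Bool}
    (h1 : labChk N r lab rep = true) (h2 : fixVChk lab P = true) {x : LL} (hx : sqNorm (x : VV) = 64) (hg : pm g • x = x) :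
    P (pv x) = true := by
  simp only [labChk, allN_iff, force_eq, and'_eq, Bool.and_eq_true, Nat.ble_eq, elemL_iff, mem_cyL] at h1
  have b := bnd_of hx.le
  let f := fun l => (x : VV) (GE.e (nth 0 rep l))
  have c : ∀ i < 24, (x : VV) (GE.e i) = f (nth 0 lab i) := fun i hi => by
    obtain ⟨⟨-, u⟩, k, -, v⟩ := h1 i hi
    have := pm_apply (g ^ k) x (GE.e i)
    rw [map_pow, show pm g ^ k • x = x from (stabilizer CC x).pow_mem hg k] at this
    rw [this, ← v, ← (a.cyc k _ u).2, inv_smul_smul, v]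
  have d := sum_lab (fun i hi => (h1 i hi).1.1) fun l => f l ^ 2
  rw [← sum_congr rfl fun i hi => congrArg (· ^ 2) (c i (mem_range.1 hi)), ← sum_gix fun i => (x : VV) (GE.e i) ^ 2] at d
  simp only [show ∀ p, GE.e (gix p) = p from GE.e_ix] at d
  rw [← sqNorm, hx, ← sq8_eq (b _).1, ← sq8_eq (b _).1, ← sq8_eq (b _).1, ← sq8_eq (b _).1] at d
  have t : ∀ l, (f l + 8).toNat < 17 := fun l => by have : -8 ≤ f l ∧ f l ≤ 8 := b _; omega
  simp only [fixVChk, allN_iff, force_eq, or'_eq, Bool.or_eq_true, Nat.ble_eq, not'_eq, Bool.not_eq_true', Nat.add_eq,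
    Nat.mul_eq] at h2
  have e : pv x = pk fun i => nth 0 [(f 0 + 8).toNat, (f 1 + 8).toNat, (f 2 + 8).toNat, (f 3 + 8).toNat] (nth 0 lab i) :=
    pk_congr fun i hi => by
      rw [c i hi]
      have := (h1 i hi).1.1
      generalize nth 0 lab i = l at this
      have : l < 4 := this
      interval_cases l <;> rfl
  replace d : 64 = wl lab 0 * sq8 (f 0 + 8).toNat + wl lab 1 * sq8 (f 1 + 8).toNat +
    (wl lab 2 * sq8 (f 2 + 8).toNat + wl lab 3 * sq8 (f 3 + 8).toNat) := by zify; exact d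
  rcases h2 _ (t 2) _ (t 3) with u | u
  · omega
  rcases u _ (t 0) _ (t 1) with u | u | u
  · rw [(beq_iff _ _).2 d.symm] at u; cases u
  · rw [← e, inL16_pv b] at u; cases u
  · exact e ▸ u
def cenCChk (N : Net) (r q O : Nat) (Os lab rep es : List Nat) (Ds : List (List Nat)) : Bool :=
  and' (and' (cenMChk N r q O Os) (and' (labChk N r lab rep) (Nat.beq (N.fn 23) 23))) (forceLL Ds fun Ds =>
    and' (and' (fixVChk lab fun X => anyL Ds fun D => isSC (mv D X)) (forceL (monoF N.fn 0) fun G =>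
      allL Ds fun D => leq (mmul D G) (mmul G D))) (allC fun x => or' (not' (Nat.beq (N.app x) x)) (elemL x es)))
theorem Acts.cent_co {g : MM} {N : Net} (a : Acts 24 GE.e g N) {r q O : Nat} {Os lab rep es : List Nat} {ds : List CC}
    (hc : cenCChk N r q O Os lab rep es (ds.map mat) = true) {x : CC} (h : x * pm g = pm g * x) :
    ∃ δ ∈ ds, ∃ i < r, ∃ c : GC, ∃ z ∈ es, (c : Finset GolayPt) = GE.fs z ∧ x = δ⁻¹ * mono (g ^ i) c := by
  simp only [cenCChk, forceLL_eq, forceL_eq, and'_eq, Bool.and_eq_true, beq_iff, allL_iff, leq_iff] at hc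
  obtain ⟨⟨c1, c2, c3⟩, ⟨c4, c5⟩, c6⟩ := hc
  have n := (co_norm x _).trans (e8_norm (GE.e 23))
  obtain ⟨_, hD, u⟩ := (anyL_iff _ _).1 (a.fixV c2 c4 n (by
    rw [← mul_smul, ← h, mul_smul, pm_e8, a.act 23 (by norm_num), c3]))
  obtain ⟨δ, hδ, rfl⟩ := List.mem_map.1 hD
  rw [mv_mat _ n.le] at u
  have v := c5 _ hD
  rw [← a.mat_pm, ← mat_mul, ← mat_mul] at v
  obtain ⟨σ, c, w⟩ := exists_mono (mem_NN_of (g := δ * x) (e8_mem_SC _)
    (by rw [mul_smul]; exact mem_SC_of_isSC ((co_norm _ _).trans n).le u))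
  have : mono σ c * mono g gc0 = mono g gc0 * mono σ c := w ▸ Commute.mul_left (mat_inj v) h
  rw [mono_mul, mono_mul] at this
  obtain ⟨i, hi, rfl⟩ := a.cent_mm c1 (mono_inj this).1
  obtain ⟨z, hz, s⟩ := mem_GC_iff.1 c.2
  have t : g • GE.fs z = GE.fs z := by
    have := congrArg Subtype.val (mono_inj this).2.symm
    simp only [gcAdd, gcSmul, gc0, Finset.smul_finset_empty] at this
    rwa [← Finset.bot_eq_empty, symmDiff_bot, bot_symmDiff, ← s] at this
  have := allC_spec c6 hz
  rw [(beq_iff _ _).2 (GE.fs_inj (Net.app_lt a.ok (lt_of_inC hz)) (lt_of_inC hz)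
    (smul_left_cancel g ((a.smul_gfs rfl).trans t.symm)))] at this
  exact ⟨δ, hδ, i, hi, c, z, by simpa [elemL_iff] using this, s.symm, by rw [← w, inv_mul_cancel_left]⟩

def yN : Net := (.cons 1 0x555555 (.cons 2 0x222222 (.cons 4 0x80808 (.cons 16 0x80 (.cons 8 0x80 (.cons 1 0x400000 .nil))))))
def bN : Net := (.cons 1 0x444444 (.cons 2 0x121212 (.cons 4 0xc030c (.cons 8 0xff (.cons 16 0xf (.cons 8 0xf (.cons 2 0x333000 (.cons 1 0x555000 .nil))))))))
theorem yN_acts : Acts 24 GE.e (mm yN) yN := acts_mm (by decide +kernel)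
theorem bN_acts : Acts 24 GE.e (mm bN) bN := acts_mm (by decide +kernel)
/-- an element of order `23` -/
def yC : CC := pm (mm yN)
/-- an element of order `11` normalising it -/
def bC : CC := pm (mm bN)
def mO : List Nat := [0x621084290a4214a4214a4290a52946421084298a42146420ca41906528ca42108619064214a42146419065294a4210c42906421464214a4190a3194a421084190a420c64214a429863294a5194a521483188851908520c842108421884290a4214a420c6429063194a52946520c83290432908520c842108421084190a42146621464290a518ca421084290a420ca431464190a328ca5194a520c852908319083214842088518c65214851908329085214841108421084190a430ca420ca4190a5194a42108419064214a420ca6290a328ca528ca32148329083190452148421085294a311485190832908320c8421084210842906620c6420c64290a5294a528c6521485290851908320c8221084310842906420ca4214a42906518ca518ca320c85290852908520c44210851946321443290852908321484210852946320c851908519085114842108528ca520c8319085288832148421083294a5214852908529085214842104,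
  0x518c6320c83190831908320c84210c328c6321483190852908520c842188318c6530c832908519085214842108328ca520cc5190831908520c8421083294a320c83290851908320c843108421884290a4214a420c6429063194a318ca321485190c5190832148421084310842906420ca4214a42906518ca328c6320c8529883290832148421083194a320c831908329085214862108421084290a420ca431464190a328ca4210842906620c6420c64290a5294a31946321485290831988520c842108318ca521483290832908330c842108421084190a420c64214a429863294a421084190a430ca420ca4190a5194a329465214831908319083214c421084210c42906421464214a4190a3194a31946520c8519085290c320c842108421084190a42146621464290a518ca42108619064214a42146419065294a42108419064214a420ca6290a328ca421084298a42146420ca41906528ca621084290a4214a4214a4290a52946,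
  0x2210a4294c521084210a42148429484208a41948321084210a420c84194c3294832106418c632948329063210a319485210642946318c8319065210a421064294832108221064214c4194842106418c8321084218a4114842948318c83210641946519483290a521064210642948321086210642144419484210642948321884210a420c8228c84218a41948321084210a420c8419444110a41948321084310642148428c84210642948320884210a420c8628c86210a42944521084210a42148429484210a428c8321044210a62148418c8328c852106428c6528c83190a321064210a228c83310842106420c8429484210a628c83110842106420c842948318c852106428ca319485290632106328c8321064194a328c851906521064210a428c83210c4210a22148418c842106418c8321084208a43148429483194832106418ca518c85190a3210a4310a41948321084110642148428c832948521064294a529485290a5210a,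
  0x2210841906420c6420c641906318ca411084190a42146420c64190a329464208841906420c64214a4190a528c6421044190a420ca420c642906528c6421082290a420c6420ca4290a318c65294a311485190832908320c8421084210841886420ca421464290a31946519463214432908529083214842108421084190a2214a4214a41906318c64210842906411464214642906328c65194a521483188851908520c84210852946520c83290432908520c8421084210842906420ca220ca4190632946421084190642146410ca4290651946528ca520c831908528883214842108528ca3214832908319045214842108421084290a420c642146219065194652946320c85190851908511484210842108429064214a420c64188a518c6518ca320c85290852908520c442108528c6521485290851908320c822108518c652148519083290852148411085194a520c8529083190832148420883294a5214852908529085214842104,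
  0x221084290a4214a4214a4290a529464110842906420ca4214a42906518ca420884290a4214a420c6429063194a4210442906421464214a4190a3194a42108219064214a42146419065294a318c6510c832908519085214842108421084288a42146420ca41906528ca328ca520c45190831908520c8421084210842906220c6420c64290a5294a421084190a410ca420ca4190a5194a328c6320c852888329083214842108318ca3214851904519083214842108421084190a42146221464290a518ca421084290a420ca411464190a328ca31946321485290831888520c84210831946520c85190852904320c84210842108419064214a420ca2290a328ca318ca521483290832908310c842108421084190a420c64214a428863294a3294652148319083190832144421083194a320c8319083290852148221083294a320c83290851908320c841108328c6321483190852908520c842088518c6320c83190831908320c842104]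
theorem mO_chk : ∀ i < 5, cochk (mO.getD i 0) = true := by decide +kernel
def cO (i : Nat) : CC := cm (mO.getD i 0)
theorem mat_cO {i : Nat} (hi : i < 5) : mat (cO i) = cmM (mO.getD i 0) := mat_cm (mO_chk i hi)
theorem yC_pow : yC ^ 23 = 1 := by
  rw [yC, ← map_pow, MM_faithful (g := mm yN ^ 23) fun i hi => by
    rw [(yN_acts.cyc 23 _ hi).2, (by decide +kernel : ∀ i < 24, cy yN 23 i = i) i hi], map_one]
theorem bC_pow : bC ^ 11 = 1 := by
  rw [bC, ← map_pow, MM_faithful (g := mm bN ^ 11) fun i hi => by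
    rw [(bN_acts.cyc 11 _ hi).2, (by decide +kernel : ∀ i < 24, cy bN 11 i = i) i hi], map_one]
theorem mat_yC : mat yC = monoF yN.fn 0 := yN_acts.mat_pm
theorem mat_bC : mat bC = monoF bN.fn 0 := bN_acts.mat_pm
theorem bC_yC : bC * yC * bC⁻¹ = yC ^ 2 := by
  rw [mul_inv_eq_iff_eq_mul, sq]
  exact mat_inj (by simp only [mat_mul, mat_yC, mat_bC]; exact leq_iff.1 (by decide +kernel))
theorem not_pm1_yC : ¬ PM1 yC := by
  simpa [wordG] using relF_spec (gs := [yC]) (r := ([0], 1)) (by rw [List.map_singleton, mat_yC]; decide +kernel)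
theorem mono_pm1 (σ : MM) {c : GC} {z : Nat} (hz : z ∈ [0, 16777215]) (h : (c : Finset GolayPt) = GE.fs z) :
    PM1 (mono σ c * (pm σ)⁻¹) := by
  simp only [List.mem_cons, List.not_mem_nil, or_false] at hz
  refine hz.imp (fun e => ?_) fun e => ?_ <;> rw [mul_inv_eq_iff_eq_mul]
  · rw [one_mul, show c = gc0 from Subtype.ext (by rw [h, e]; exact GE.fs_zero)]; rfl
  · rw [neg1_eq, show pm σ = mono σ gc0 from rfl, mono_mul, one_mul]
    exact congrArg _ (Subtype.ext (by rw [h, e]; exact GE.fs_all.trans (by simp [gcAdd, gcSmul, gc0, ← Finset.bot_eq_empty])))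
theorem cent_yC {x : CC} (h : x * yC = yC * x) : ∃ i : ℕ, PM1 (x * (yC ^ i)⁻¹) := by
  obtain ⟨δ, hδ, i, -, c, z, hz, u, rfl⟩ := yN_acts.cent_co (r := 23) (q := 0) (O := 0x149f) (Os := [])
    (lab := [3, 3, 3, 3, 3, 3, 3, 3, 3, 3, 3, 3, 3, 3, 3, 3, 3, 3, 3, 3, 3, 3, 3, 2]) (rep := [0, 0, 23, 0]) (es := [0, 16777215])
    (ds := [1]) (by rw [List.map_singleton, mat_one]; decide +kernel) h
  exact ⟨i, by rw [List.mem_singleton.1 hδ, inv_one, one_mul, yC, ← map_pow]; exact mono_pm1 _ hz u⟩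
def esB : List Nat := [0x0, 0x5335f, 0xfacca0, 0xffffff]
def dsB : List (List Nat) := [mI, cmM (mO.getD 3 0), cmM (mO.getD 4 0)]
theorem map_dsB : [1, cO 3, cO 4].map mat = dsB := by
  simp only [List.map_cons, mat_one, mat_cO (show 3 < 5 by norm_num), mat_cO (show 4 < 5 by norm_num)]; rfl
theorem cent_bC {x : CC} (h : x * bC = bC * x) : ∃ δ ∈ [1, cO 3, cO 4], ∃ i < 11, ∃ c : GC, ∃ z ∈ esB,
    (c : Finset GolayPt) = GE.fs z ∧ x = δ⁻¹ * mono (mm bN ^ i) c :=
  bN_acts.cent_co (q := 1) (O := 0x149f) (Os := [0x843039, 0x846245, 0x84805e, 0x85028b, 0x851614, 0x87210c, 0x8d0151, 0x942312, 0xa53042, 0xc41348])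
    (lab := [1, 2, 2, 2, 2, 3, 2, 3, 2, 2, 3, 3, 2, 2, 3, 3, 2, 3, 2, 3, 3, 3, 3, 0]) (rep := [23, 0, 1, 5]) (by rw [map_dsB]; decide +kernel) h
theorem comm_of_pm1 {x g : CC} {r : Nat} (hr : Odd r) (ho : g ^ r = 1) (h : PM1 (x * g * (g * x)⁻¹)) : x * g = g * x := by
  rcases h with h | h
  · exact mul_inv_eq_one.1 h
  have c : ∀ z, Commute neg1 z := fun z => (Subgroup.mem_center_iff.1 neg1_center z).symm
  have : x * g * x⁻¹ = neg1 * g := by rw [← h]; group
  have := congrArg (· ^ r) this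
  simp only [conj_pow, (c g).mul_pow, ho, mul_one, mul_inv_cancel] at this
  obtain ⟨k, rfl⟩ := hr
  rw [pow_succ, pow_mul, sq, neg1_sq, one_pow, one_mul] at this
  exact absurd this.symm neg1_ne
theorem map_wordG {G G' : Type*} [Group G] [Group G'] (f : G →* G') (l : List G) (w : List Nat) :
    f (wordG l w).prod = (wordG (l.map f) w).prod := by
  rw [map_list_prod, wordG, wordG, List.map_map]
  exact congrArg _ (List.map_congr_left fun i _ => by rw [← map_one f, List.getD_map]; rfl)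

def tChk (b : Nat) (rs : List (List Nat × Nat)) (T : List Nat) : Bool := forceL T fun T => forceL (mneg T) fun T' =>
  forceL (monoF yN.fn 0) fun Y => forceL (mtr Y) fun Y' => forceL (monoF bN.fn 0) fun G =>
  and' (and' (leq (mmul T G) (mmul (monoF (cy bN b) 0) T)) (allL rs (relT [Y, G, T]))) (allL dsB fun D =>
    forceL (mtr D) fun D' => forceL (mmul T D') fun U => allN 11 fun i => allL esB fun z =>
      forceL (mmul U (monoF (cy bN i) z)) fun W =>
        and' (or' (or' (leq W T) (leq W T')) (anyL rs (relF [Y, G, W]))) (anyL rs (relF [Y', G, W])))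
section
variable {X : Type*} [Group X] {H : Subgroup CC} (π : H →* X) (hs : Function.Surjective π)
  (hk : ∀ z : H, π z = 1 ↔ PM1 z) {y g : H} (hy : (y : CC) = yC) (hg : (g : CC) = bC)
include hs hk hy hg
theorem fix_t {t : H} {b : Nat} {rs : List (List Nat × Nat)} (hc : tChk b rs (mat t) = true) (ψ : MulAut X)
    (h1 : ψ (π g) = π g) (h2 : ψ (π y) = π y ∨ ψ (π y) = π y⁻¹) : ψ (π y) = π y ∧ ψ (π t) = π t := by
  simp only [tChk, forceL_eq, and'_eq, Bool.and_eq_true, allL_iff, allN_iff, or'_eq, Bool.or_eq_true, leq_iff, anyL_iff,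
    ← mat_yC, ← mat_bC, ← mat_inv, ← mat_neg, ← map_dsB, List.forall_mem_map, ← mat_mul] at hc
  obtain ⟨⟨c1, c2⟩, c3⟩ := hc
  rw [← mat_mono (c := gc0) (bN_acts.cyc b) GE.fs_zero.symm, ← mat_mul] at c1
  have e : t * g = g ^ b * t := Subtype.ext (by
    simp only [Subgroup.coe_mul, Subgroup.coe_pow, hg, bC, ← map_pow]; exact mat_inj c1)
  obtain ⟨s, hs⟩ := hs (ψ (π t))
  have f : π (t⁻¹ * s * g) = π (g * (t⁻¹ * s)) := by
    have u := congrArg π e
    have v := congrArg ψ u
    simp only [map_mul, map_pow, map_inv, h1, ← hs] at u v ⊢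
    rw [mul_assoc, v, ← mul_assoc, ← mul_assoc, inv_mul_eq_of_eq_mul (show π g ^ b = π t * (π g * (π t)⁻¹) by
      rw [← mul_assoc, u, mul_inv_cancel_right])]
  obtain ⟨δ, hδ, i, hi, c, z, hz, u, v⟩ := cent_bC (comm_of_pm1 (x := (t⁻¹ * s : H)) (by decide) bC_pow (by
    simpa only [Subgroup.coe_mul, Subgroup.coe_inv, hg] using (hk _).1 (by rw [map_mul, map_inv, f, mul_inv_cancel] :
      π (t⁻¹ * s * g * (g * (t⁻¹ * s))⁻¹) = 1)))
  have w := c3 δ hδ i hi z hz
  rw [← mat_mono (bN_acts.cyc i) u, ← mat_mul, mul_assoc, ← v, Subgroup.coe_mul, Subgroup.coe_inv, mul_inv_cancel_left] at w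
  have k : ∀ y' : H, ψ (π y) = π y' → ¬ ∃ r ∈ rs, relF [mat y', mat bC, mat s] r = true := by
    rintro y' p ⟨r, hr, q⟩
    refine relF_spec (gs := [y', g, s].map H.subtype) (by simpa [hg] using q) ?_
    have := relT_spec (gs := [y, g, t].map H.subtype) (by simpa [hg, hy] using c2 r hr)
    rw [← map_wordG, ← map_pow] at this ⊢
    have := congrArg ψ.toMonoidHom ((hk ((wordG [y, g, t] r.1).prod ^ r.2)).2 this)
    rw [map_one, map_pow, map_pow, map_wordG, map_wordG] at this
    refine (hk ((wordG [y', g, s] r.1).prod ^ r.2)).1 ?_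
    rw [map_pow, map_wordG]
    simpa [p, h1, hs] using this
  have p := h2.resolve_right fun p => k _ p (by simpa only [Subgroup.coe_inv, hy] using w.2)
  refine ⟨p, ?_⟩
  rw [← hs, ← mul_inv_eq_one, ← map_inv, ← map_mul, hk, Subgroup.coe_mul, Subgroup.coe_inv]
  exact (w.1.resolve_right (hy ▸ k _ p)).imp (fun q => by rw [mat_inj q, mul_inv_cancel]) fun q => by
    rw [mat_inj q, mul_inv_cancel_right]
theorem out_co [Finite X] (h2 : ¬ 23 ^ 2 ∣ Nat.card X) {t : H} {ts : List H}
    (hgen : H ≤ cl (yC :: (t :: ts).map Subtype.val)) (hc : ∀ s ∈ t :: ts, ∃ b rs, tChk b rs (mat s) = true) :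
    Nat.card (Out X) = 1 := by
  have : Fact (Nat.Prime 23) := ⟨by norm_num⟩
  have ho : orderOf (π y) = 23 := orderOf_eq_prime (by
    rw [← map_pow, show y ^ 23 = 1 from Subtype.ext (by simpa [hy] using yC_pow), map_one])
    fun h => not_pm1_yC (hy ▸ (hk _).1 h)
  have hb : π g * π y * (π g)⁻¹ = π y ^ 2 := by
    rw [← map_inv, ← map_mul, ← map_mul, ← map_pow]; exact congrArg π (Subtype.ext (by simpa [hy, hg] using bC_yC))
  refine H29.card_out_eq_one fun φ => ?_
  obtain ⟨x, m, hm, h3, h4⟩ := H29.aut_normalise (by norm_num) ho h2 (fun x hx => by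
    obtain ⟨x, rfl⟩ := hs x
    obtain ⟨i, u⟩ := cent_yC (comm_of_pm1 (x := x) (by decide) yC_pow (by
      simpa only [Subgroup.coe_mul, Subgroup.coe_inv, hy] using (hk (x * y * (y * x)⁻¹)).1 (by simp [hx])))
    have := (hk (x * (y ^ i)⁻¹)).2 (by simpa [hy] using u)
    rw [map_mul, map_inv, mul_inv_eq_one, map_pow] at this
    exact this ▸ Subgroup.npow_mem_zpowers _ _) hb (by norm_num) φ
  obtain ⟨k, -, hk'⟩ := (by decide +kernel : ∀ m < 23, m ≠ 0 → ∃ k < 11, m * 2 ^ k % 23 = 1 ∨ m * 2 ^ k % 23 = 22) m hm (by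
    rintro rfl
    rw [pow_zero, map_eq_one_iff _ (MulAut.conj x * φ).injective] at h3
    rw [h3, orderOf_one] at ho
    cases ho)
  set ψ := MulAut.conj (π g ^ k * x) * φ with hψ
  have p0 : ∀ z, ψ z = π g ^ k * (MulAut.conj x * φ) z * (π g ^ k)⁻¹ := fun z => by
    simp only [hψ, MulAut.mul_apply, MulAut.conj_apply]; group
  have p1 : ψ (π y) = π y ^ (m * 2 ^ k % 23) := by
    have : ∀ k, π g ^ k * π y * (π g ^ k)⁻¹ = π y ^ 2 ^ k := fun k => by
      induction k with
      | zero => simp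
      | succ k ih => rw [pow_succ' (π g), pow_succ' 2, pow_mul, ← hb, conj_pow, ← ih]; group
    rw [p0, h3, ← conj_pow, this, ← pow_mul, ← ho, pow_mod_orderOf, mul_comm]
  have p := fun s hs' => let ⟨_, _, c⟩ := hc s hs'
    fix_t π hs hk hy hg c ψ (by rw [p0, h4]; group) (hk'.imp (fun u => by rw [p1, u, pow_one]) fun u => by
      rw [p1, u, map_inv, eq_inv_iff_mul_eq_one, ← pow_succ]; exact orderOf_dvd_iff_pow_eq_one.1 ho.dvd)
  have q : H ≤ ((ψ.toMonoidHom.comp π).eqLocus π).map H.subtype := hgen.trans (cl_le (List.forall_mem_cons.2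
    ⟨⟨y, (p t List.mem_cons_self).1, hy⟩, List.forall_mem_map.2 fun s h => ⟨s, (p s h).2, rfl⟩⟩))
  refine ⟨(π g ^ k * x)⁻¹, ?_⟩
  rw [map_inv, inv_eq_iff_mul_eq_one]
  ext z
  obtain ⟨z, rfl⟩ := hs z
  obtain ⟨w, u, v⟩ := q z.2
  exact Subtype.ext v ▸ u
end

theorem tChk3 : tChk 3 [([0, 0, 0, 2], 7), ([0, 0, 2, 2], 8)] (mat (cO 0)) = true := by
  rw [mat_cO (by norm_num)]; decide +kernel
theorem tChk2 : tChk 2 [([0, 2, 2], 6), ([0, 1, 0, 2], 7), ([0, 0, 2], 11)] (mat (cO 1)) = true := by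
  rw [mat_cO (by norm_num)]; decide +kernel
def cZ : Nat := 0x2a5294a5294a5294a5294a5294a529
theorem coe_lZ : (lZ : VV) = vc cZ := by decide +kernel
theorem yb_mem : mm yN ∈ H23 ∧ mm bN ∈ H23 :=
  ⟨yN_acts.act 23 (by norm_num) |>.trans (by decide +kernel), bN_acts.act 23 (by norm_num) |>.trans (by decide +kernel)⟩
theorem mem_C3_lZ {σ : MM} (h : σ ∈ H23) : pm σ ∈ C3 ∧ pm σ ∈ stabilizer CC lZ := C3_inf_lZ.ge ⟨σ, h, rfl⟩
theorem cO0_mem : cO 0 ∈ C3 := cm_smul_vc (mO_chk 0 (by norm_num)) coe_lV coe_lV (by decide +kernel)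
theorem cO1_mem : cO 1 ∈ stabilizer CC lZ := cm_smul_vc (mO_chk 1 (by norm_num)) coe_lZ coe_lZ (by decide +kernel)
theorem cO2_lZ : cO 2 • lZ = lU := cm_smul_vc (mO_chk 2 (by norm_num)) coe_lZ coe_lU (by decide +kernel)
theorem gen_C3 : C3 ≤ cl [yC, cO 0] := cl_m3 ▸ cl_le fun g hg => by
  simpa using mem_of_mgen (u := 1) (gs := [yC, cO 0]) [(0, 0), (1, 0), (3, 9999), (0, 1), (4, 9999), (0, 1), (3, 0), (2, 0), (3, 0), (10, 0), (5, 0), (0, 9999), (7, 13), (10, 0), (11, 0), (15, 0), (16, 0), (0, 9999), (0, 6), (1, 0), (2, 0), (9, 0), (5, 0), (12, 0), (7, 0), (13, 0), (0, 9999), (10, 10), (16, 0), (17, 0), (18, 0), (14, 0), (15, 0), (21, 0), (22, 0), (23, 0), (24, 0), (0, 9999), (0, 11), (28, 28), (23, 0), (29, 0), (30, 0), (26, 0), (33, 0), (27, 0), (28, 0), (0, 9999), (0, 9), (12, 0), (0, 9999), (25, 14), (15, 0), (26, 0), (17, 0), (29, 0), (30, 0), (31, 0), (21, 0), (0, 8), (1, 0), (11, 0), (9998, 9998), (0, 9999), (0, 2), (15, 6), (16, 0), (8, 0), (17, 0), (10, 9999),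 (0, 1), (1, 0), (0, 7), (11, 9999), (0, 1), (11, 0), (4, 9999), (0, 1), (1, 0), (5, 5), (3, 0), (17, 0), (20, 0), (6, 0), (22, 0), (13, 0), (14, 0), (0, 8), (26, 0), (2, 0), (18, 0), (41, 0), (20, 0), (6, 0), (57, 0), (36, 0), (46, 0), (86, 0), (28, 0), (87, 0), (100, 0), (27, 0), (55, 0), (41, 16), (27, 0), (35, 0), (34, 0), (56, 0), (71, 0), (37, 0), (73, 0), (99, 0), (86, 0), (113, 0), (97, 0), (112, 0), (0, 9998), (14, 9998)] (by
    rw [map_mat_cm m3_chk, mat_one, List.map_cons, List.map_singleton, mat_yC, mat_cO (by norm_num)]; decide +kernel) g hg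
theorem gen_lZ : stabilizer CC lZ ≤ cl [yC, cO 1] :=
  (CjRel.stab' cO2_lZ).symm.le (CjRel.of_map (cO 2) _).symm (cl_m2.ge.trans <| cl_le fun g hg => ⟨_, mem_of_mgen (u := cO 2)
    [(1, 1), (2, 0), (2, 0), (4, 0), (4, 0), (5, 0), (6, 0), (7, 0), (0, 9999), (0, 0), (9998, 9998), (0, 1), (1, 0), (4, 0), (5, 0), (6, 0), (17, 14), (17, 0), (19, 9999), (0, 1), (20, 0), (0, 5), (13, 0), (14, 0), (3, 0), (17, 0), (18, 0), (16, 19), (17, 0), (20, 0), (9, 9999), (0, 1), (23, 0), (22, 0), (13, 0), (14, 0), (15, 0), (28, 0), (0, 9999), (0, 12), (1, 0), (14, 9999), (0, 1), (4, 0), (33, 33), (0, 1), (7, 0), (2, 9999), (0, 1), (7, 0), (11, 0), (9, 13), (4, 0), (15, 0), (9, 0), (28, 0), (18, 0), (15, 0), (16, 0), (17, 0), (0, 9999), (0, 10), (23, 21), (24, 0), (25, 0), (23, 0), (0, 9999), (0, 5), (30, 41), (27, 0), (25, 0), (29, 0), (24, 0), (31, 0), (35, 0), (33, 0), (0, 8), (17, 0), (27, 0), (18, 0), (4, 9999), (0, 1), (22, 0), (23, 0), (0, 9999), (34, 9999), (0, 20), (11, 0),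 (21, 0), (29, 0), (4, 0), (10, 0), (32, 0), (0, 8), (13, 13), (28, 0), (29, 0), (11, 0), (31, 0), (32, 0), (14, 0), (15, 0), (16, 0), (0, 9999), (0, 10), (20, 0), (25, 44), (26, 0), (47, 0), (48, 0), (24, 0), (0, 9999), (0, 6), (20, 9999), (0, 1), (39, 39), (49, 0), (31, 0), (51, 0), (52, 0), (93, 75), (83, 0), (80, 0), (78, 0), (97, 0), (86, 0), (84, 0), (0, 9999), (0, 8), (48, 0), (44, 0), (50, 0), (0, 17), (6, 82), (83, 0), (74, 0), (70, 0), (51, 0), (57, 0), (53, 0), (54, 0), (0, 9999), (0, 9), (58, 0), (32, 0), (0, 9999), (60, 18), (71, 0), (72, 0), (21, 0), (83, 0), (23, 0), (86, 0), (102, 0), (0, 9999), (14, 0), (71, 0), (15, 0), (54, 0), (75, 0), (49, 0), (19, 0), (78, 0), (51, 0), (0, 18), (19, 0), (73, 34), (83, 0), (13, 0), (27, 0), (59, 0), (87, 0), (88, 0), (59, 0), (62, 0), (0, 9999), (0, 10), (13, 9999), (0, 1), (3, 0), (25, 66), (67, 0), (50, 0), (79, 0), (43, 0), (81, 0), (101, 0), (0, 9999), (0, 8), (11, 0), (78, 105), (59, 9999), (0, 1), (109,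 0), (53, 0), (54, 0), (103, 0), (56, 0), (86, 0), (0, 9999), (0, 24), (37, 0), (38, 0), (4, 0), (59, 0), (6, 0), (18, 0), (7, 0), (0, 9999), (0, 19), (46, 11), (24, 0), (66, 0), (26, 0), (27, 0), (51, 0), (70, 0), (17, 0), (0, 9999), (0, 9), (30, 0), (13, 0), (3, 0), (14, 0), (6, 0), (16, 0), (0, 9999), (0, 0), (40, 64), (84, 0), (55, 0), (86, 0), (68, 0), (33, 0), (34, 0), (0, 9999), (0, 17), (47, 0), (48, 0), (21, 0), (0, 9999), (0, 13), (52, 9999), (8, 0), (1, 0), (26, 0), (10, 0), (11, 0), (30, 0), (59, 0), (41, 0), (0, 9999), (0, 10), (1, 0), (27, 0), (4, 29), (15, 0), (5, 0), (6, 0), (18, 0), (0, 9999), (0, 6), (7, 0), (2, 0), (9, 0), (5, 0), (26, 0), (68, 0), (184, 0), (218, 0), (159, 0), (187, 0), (234, 0), (235, 0), (163, 0), (267, 0), (101, 0), (277, 0), (240, 0), (115, 0), (261, 0), (73, 15), (171, 0), (199, 0), (224, 0), (174, 0), (210, 0), (260, 0), (261, 0), (204, 0), (263, 0), (283, 0), (117, 0), (254, 0), (295, 0), (150, 0), (0, 9998), (16, 9998)]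 (by
    rw [map_mat_cm m2_chk, List.map_cons, List.map_singleton, mat_yC, mat_cO (by norm_num), mat_cO (by norm_num)]
    decide +kernel) g hg, by simp [mul_assoc]⟩)
theorem over_lZ {L : Subgroup CC} (h : stabilizer CC lZ ≤ L) : (∀ g ∈ L, g • lZ = lZ ∨ g • lZ = -lZ) ∨ L = ⊤ := by
  have R := CjRel.of_map (cO 2) L
  refine (over_C2 ((CjRel.stab' cO2_lZ).le R h)).imp (fun a g hg => ?_) fun a => R.symm.eq (by rw [a]; exact CjRel.top _)
  simpa only [← cO2_lZ, mul_smul, inv_smul_smul, ← smul_neg, smul_left_cancel_iff] using a _ ((R g).1 hg)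
theorem gen_top : ⊤ ≤ cl [yC, cO 1, cO 0] := by
  refine ((over_lZ (gen_lZ.trans (cl_le fun g hg => mem_cl (List.mem_of_mem_take (l := [yC, cO 1, cO 0]) (i := 2) hg)))).resolve_left fun h => ?_).ge
  have := h (cO 0) (mem_cl (by simp))
  rw [cO, cm_smul_vc (mO_chk 0 (by norm_num)) coe_lZ (coe_lv (X := 0x4a52949d274a4e74a4e749d2739ceb) (by decide +kernel)) (by decide +kernel),
    Subtype.ext_iff, Subtype.ext_iff, coe_lv (by decide +kernel)] at this
  revert this; decide +kernel
theorem out_co' {X : Type*} [Group X] {v : LL} (hv : v ≠ -v) (φ : stabilizer CC v ≃* X) (hy : yC ∈ stabilizer CC v)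
    (hg : bC ∈ stabilizer CC v) (h2 : ¬ 23 ^ 2 ∣ Nat.card (stabilizer CC v)) {t : CC} (ht : t ∈ stabilizer CC v)
    (hgen : stabilizer CC v ≤ cl [yC, t]) {b : Nat} {rs : List (List Nat × Nat)} (hc : tChk b rs (mat t) = true) :
    Nat.card (Out X) = 1 := (card_out_congr φ).symm.trans
  (out_co (MonoidHom.id _) Function.surjective_id (fun z => ⟨fun h => .inl (congrArg Subtype.val h), fun h =>
    Subtype.ext (h.resolve_right fun e => hv (z.2.symm.trans (e ▸ neg1_smul v)))⟩) (y := ⟨_, hy⟩) (g := ⟨_, hg⟩) rfl rfl h2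
    (t := ⟨t, ht⟩) (ts := []) hgen (by simpa using ⟨b, rs, hc⟩))

end
end H27
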