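import Cfsg.Agent.H27.Out
/-! Helpers for large permutation models: orbital matrices from a tree, generation by words. -/
namespace H27
noncomputable section
open MulAction

variable {G Ω : Type*} [Group G] [MulAction G Ω]

/-- binary trees of rows -/
inductive RT : Type
  | leaf : Nat → RT
  | node : RT → RT → RT
def RT.get (t : RT) : Nat → Nat :=
  RT.rec (motive := fun _ => Nat → Nat) (fun x _ => x)
    (fun _ _ a b i => force (Nat.shiftRight i 1) fun j => ite' (tb i 0) (b j) (a j)) t
def RT.set {α : Type} (t : RT) (x : Nat) : Nat → (RT → α) → α :=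
  RT.rec (motive := fun _ => Nat → (RT → α) → α) (fun _ _ k => k (.leaf x))
    (fun l r a b i k => force (Nat.shiftRight i 1) fun j =>
      ite' (tb i 0) (b j fun u => k (.node l u)) (a j fun u => k (.node u r))) t
theorem RT.set_eq {α : Type} (t : RT) (x i : Nat) (k : RT → α) : t.set x i k = k (t.set x i id) := by
  induction t generalizing i k α with
  | leaf => rfl
  | node l r a b =>
    have : ∀ {β : Type} (k : RT → β), (RT.node l r).set x i k = ite' (tb i 0) (r.set x (Nat.shiftRight i 1) fun u =>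
      k (.node l u)) (l.set x (Nat.shiftRight i 1) fun u => k (.node u r)) := fun k =>
      force_eq (Nat.shiftRight i 1) fun j => ite' (tb i 0) (r.set x j fun u => k (.node l u)) (l.set x j fun u => k (.node u r))
    rw [this, this]
    cases tb i 0
    · exact (a _ _).trans (congrArg k (a _ fun u => id (RT.node u r)).symm)
    · exact (b _ _).trans (congrArg k (b _ fun u => id (RT.node l u)).symm)
/-- the rows of an orbital relation, built along a tree of involutions -/
def mkT {α : Type} (K n : Nat) (Ns : List Net) (X T : Nat) (k : RT → α) : α :=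
  (Nat.rec (motive := fun _ => RT) (.leaf 0) (fun _ t => .node t t) K).set X 0
    (Nat.rec (motive := fun _ => RT → α) k (fun i ih t => force (ent 20 T i) fun s =>
      force (Nat.shiftRight s 4) fun c => force (Nat.land s 15) fun l =>
        force ((nth .nil Ns l).app (t.get ((nth .nil Ns l).fn c))) fun x => t.set x c ih) (Nat.pred n))
theorem mkT_eq {α : Type} (K n : Nat) (Ns : List Net) (X T : Nat) (k : RT → α) :
    mkT K n Ns X T k = k (mkT K n Ns X T id) := by
  rw [mkT, mkT, RT.set_eq, RT.set_eq _ _ _ (Nat.rec _ _ _)]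
  generalize RT.set _ X 0 id = t
  induction Nat.pred n generalizing t with
  | zero => rfl
  | succ m ih => simp only [force_eq] at ih ⊢; rw [RT.set_eq, ih, RT.set_eq _ _ _ (Nat.rec _ _ _)]
def rowT (n : Nat) (t : RT) (p : Nat) : Nat := ite' (Nat.ble n p) 0 (Nat.land (t.get p) (ones n))
def packT (n : Nat) (t : RT) : Nat := Nat.ofBits (n := n * n) fun i => (t.get (i / n)).testBit (i % n)
theorem ent_packT (n : Nat) (t : RT) : ent n (packT n t) = rowT n t := funext fun p => Nat.eq_of_testBit_eq fun j => by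
  rw [testBit_ent, packT, Nat.testBit_ofBits, rowT, ite'_eq]
  simp only [Nat.ble_eq, Nat.land_eq]
  by_cases hj : j < n
  · have h0 : 0 < n := by omega
    split_ifs with a b b
    · exact absurd (Nat.mul_le_mul_left n b) (by omega)
    · simp [hj, Nat.mul_add_div h0, Nat.div_eq_of_lt hj, Nat.mod_eq_of_lt hj, (testBit_ones n j).2 hj]
    · simp
    · exact absurd (Nat.mul_le_mul_left n (Nat.succ_le_of_lt (not_le.1 b))) (by rw [Nat.mul_succ]; omega)
  · have : (ones n).testBit j = false := Bool.eq_false_iff.2 fun a => hj ((testBit_ones n j).1 a)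
    split_ifs <;> simp [hj, this]
def atomsF (f : Nat → Nat) (Ts : List Net) (c : Nat) (l : List Nat) (Y : Nat) : Nat :=
  List.rec (motive := fun _ => Nat) Y (fun a _ ih => force ((nth .nil Ts (Nat.shiftRight a 1)).fn c) fun p =>
    Nat.land (ite' (tb a 0) (Nat.shiftLeft 1 p) (f p)) ih) l
def cenNewF (d n : Nat) (f : Nat → Nat) (Ts : List Net) (s : CenStep) : Nat :=
  ite' (Nat.beq s.1 0) (maskOf n fun c => and' (tb s.2.1 c) (Nat.beq (pop d n (atomsF f Ts c s.2.2.2.1 s.2.2.1)) s.2.2.2.2))
    (ite' (Nat.beq s.1 1) (f s.2.1) (ite' (Nat.beq s.1 2) (Nat.shiftLeft 1 s.2.1) ((nth .nil Ts s.2.2.1).app s.2.1)))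
def cenRunF (d n : Nat) (f : Nat → Nat) (B : List Nat) (Ts : List Net) (S : List CenStep) : List Net → List Nat → Bool :=
  List.rec (motive := fun _ => List Net → List Nat → Bool)
    (fun _ I => allL B fun i => and' (Nat.ble (Nat.succ i) n) (force (Nat.shiftLeft 1 i) fun x => elemL x I))
    (fun s _ ih Cs I => and' (cenOk n s Cs I) (force (cenNewF d n f Ts s) fun X => splitK X I
      (ih (ite' (Nat.beq s.1 2) (dropL Cs s.2.2.2.2) Cs)))) S
/-- the relation as a number -/
def relT' (K n : Nat) (Ns : List Net) (X T : Nat) : Nat := packT n (mkT K n Ns X T id)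
theorem cenRun_of {K n X T : Nat} {Ns Ts Cs : List Net} {B I : List Nat} {S : List CenStep} {a b : Bool} (h0 : and' a b = true)
    (h : mkT K n Ns X T (fun t => cenRunF K n (rowT n t) B Ts S Cs I) = true) :
    and' a (and' b (cenRun K n (relT' K n Ns X T) B Ts S Cs I)) = true := by
  rw [mkT_eq, ← ent_packT] at h
  rw [and'_eq, Bool.and_eq_true] at h0
  rw [h0.1, h0.2]; exact h
theorem relChk_of {K n X T : Nat} {Ns : List Net} {N : Net} (hN : N.Ok n)
    (h : mkT K n Ns X T (fun t => allN n fun i => Nat.beq (N.app (rowT n t (N.fn i))) (rowT n t i)) = true) :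
    relChk n (relT' K n Ns X T) N = true := by
  rw [mkT_eq, ← ent_packT, allN_iff] at h
  rw [relChk, force_eq, allN_iff]
  intro i hi
  rw [beq_iff, relT', ← (beq_iff _ _).1 (h i hi)]
  refine Nat.eq_of_testBit_eq fun j => ?_
  rw [Net.testBit_app hN, testBit_ent, testBit_ent]
  by_cases hj : j < n
  · rw [mul_comm, Net.testBit_appR hN _ _ (Net.fn_lt hN hi) hj, mul_comm]; simp [hj, Net.fn_lt hN hj]
  · simp [hj, Net.fn_ge hN (not_lt.1 hj)]
theorem and'_of {a b : Bool} (h : a = true) (h' : b = true) : and' a b = true := by rw [h, h']; rfl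
def wordsChk (K n : Nat) (Ms Ns : List Net) (W : List (List Nat)) : Bool :=
  allN Ns.length fun i => eqL K n (wordN (symN Ms) (nth [] W i)) [nth .nil Ns i]
theorem ActsL.le_of_words {K n : Nat} {e : Nat → Ω} {A : Subgroup G} (hf : ∀ g ∈ A, (∀ i < n, g • e i = e i) → g = 1)
    {xs gs : List G} {Ns Ms : List Net} (a : ActsL n e xs Ns) (b : ActsL n e gs Ms) (hx : ∀ g ∈ xs, g ∈ A)
    (hg : ∀ g ∈ gs, g ∈ A) (W : List (List Nat)) (hc : wordsChk K n Ms Ns W = true) : cl xs ≤ cl gs := cl_le fun x h => by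
  obtain ⟨i, hi, rfl⟩ := List.getElem_of_mem h
  have u := a.getD i
  rw [List.getD_eq_getElem _ _ hi] at u
  exact b.mem_of_word u hf (fun _ => mem_cl) (cl_le hg) (hx _ h) _
    (by simpa only [nth_eq] using (allN_iff _ _).1 hc i (a.length_eq ▸ hi))
theorem ActsL.top_of_words {K n : Nat} {e : Nat → Ω} (hf : ∀ g : G, (∀ i < n, g • e i = e i) → g = 1)
    {xs gs : List G} {Ns Ms : List Net} (a : ActsL n e xs Ns) (ht : cl xs = ⊤) (b : ActsL n e gs Ms)
    (W : List (List Nat)) (hc : wordsChk K n Ms Ns W = true) : cl gs = ⊤ :=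
  top_le_iff.1 (ht ▸ a.le_of_words (A := ⊤) (fun g _ => hf g) b (fun _ _ => trivial) (fun _ _ => trivial) W hc)
theorem ActsL.iso_top {m : Nat} [NeZero m] {e : Nat → Ω} (he : Set.InjOn e {j | j < m}) {gs : List G} {Ms : List Net}
    (h : ActsL m e gs Ms) (ht : cl gs = ⊤) (hf : ∀ g : G, (∀ i < m, g • e i = e i) → g = 1) :
    Nonempty (G ≃* netGrp m Ms) := ⟨Subgroup.topEquiv.symm.trans (h.iso_netGrp' he ht fun g _ => hf g).some⟩
theorem ext_two {L : Subgroup G} {a : G} (k : CjRel a L L) (a2 : a⁻¹ = a) {l : List G} (hl : ∀ g ∈ l, g ∈ L ∨ g = a) :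
    ∀ z ∈ cl l, z ∈ L ∨ z * a⁻¹ ∈ L := by
  have st : ∀ g ∈ l, ∀ g', g' = g ∨ g' = g⁻¹ → ∀ z, z ∈ L ∨ z * a⁻¹ ∈ L → g' * z ∈ L ∨ g' * z * a⁻¹ ∈ L := by
    intro g hg g' p z q
    rcases hl g hg with w | w
    · have : g' ∈ L := by
        rcases p with rfl | rfl
        exacts [w, inv_mem w]
      exact q.imp (mul_mem this) fun r => mul_assoc g' z _ ▸ mul_mem this r
    · obtain rfl : g' = a := by rw [w, a2, or_self] at p; exact p
      exact q.symm.imp (fun r => by simpa [mul_assoc, ← mul_inv_rev, inv_eq_iff_mul_eq_one.1 a2] using (k _).1 r) (k _).1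
  intro z hz
  induction hz using Subgroup.closure_induction_left with
  | one => exact .inl (one_mem _)
  | mul_left g hg z _ ih => exact st g hg g (.inl rfl) z ih
  | inv_mul_cancel g hg z _ ih => exact st g hg _ (.inr rfl) z ih
/-- centraliser in a subgroup `H` when the relation has a further automorphism `a` of order two; only a base is refined -/
theorem ActsL.cent_ext2 [Finite G] {K n R : Nat} {e : Nat → Ω} (he : Set.InjOn e {j | j < n}) (hn : n ≤ 2 ^ K)
    (hf : ∀ g : G, (∀ i < n, g • e i = e i) → g = 1) {H : Subgroup G} {gs : List H} {Ns : List Net} (h : ActsL n e gs Ns)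
    (hg : cl gs = ⊤) {a : G} {A : Net} (u : Acts n e a A) (ha : CjRel a H H) {B : List Nat}
    (hB : ∀ g ∈ (⊤ : Subgroup H), (∀ i ∈ B, g • e i = e i) → g = 1) {w : H} {Z : Net} (z : Acts n e w Z) (p : Nat)
    (hw : and' (eqL K n [A, A] []) (and' (and' (Nat.ble (Nat.succ p) n) (not' (Nat.beq (A.fn p) (Z.fn p))))
      (allL B fun i => and' (Nat.ble (Nat.succ i) n) (Nat.beq (A.fn i) (Z.fn i)))) = true)
    (hR : allL (A :: Ns) (relChk n R) = true) {y : H}
    {Y : Net} (v : Acts n e y Y) {cs : List H} {Cs : List Net} (b : ActsL n e cs Cs) (Ts : List Net) (S : List CenStep)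
    (W : List (List Nat)) (hc' : H27.cjW K n A Cs Cs W = true) (hc : and' (powsChk K n Y Ts .nil)
      (and' (commL K n (appendL Cs [A]) [Y]) (cenRun K n R (p :: B) Ts S (appendL Cs [A]) [ones n])) = true) :
    ∀ x, x * y = y * x → x ∈ cl cs := by
  rw [appendL_eq] at hc
  simp only [and'_eq, Bool.and_eq_true, allL_iff, Nat.ble_eq, beq_iff, not'_eq, Bool.not_eq_true'] at hw
  obtain ⟨w1, ⟨w2, w3⟩, w4⟩ := hw
  have a2 : a⁻¹ = a := by
    rw [inv_eq_iff_mul_eq_one]
    simpa using ActsL.eq_of_eqL hf (gs := [a, a]) (.cons u (.cons u .nil)) .nil w1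
  have nf : ∀ x : H, (∀ i ∈ p :: B, ((x : G) * a) • e i = e i) → False := fun x hx => by
    have := hB (x * w) trivial fun i hi => by
      rw [mul_smul, z.act i (w4 i hi).1, ← (w4 i hi).2, ← u.act i (w4 i hi).1, Subgroup.smul_def, ← mul_smul]
      exact hx i (List.mem_cons_of_mem _ hi)
    have q := hx p List.mem_cons_self
    rw [mul_smul, u.act p w2, ← Subgroup.smul_def, eq_inv_of_mul_eq_one_left this, inv_smul_eq_iff, z.act p w2] at q
    rw [he (Net.fn_lt u.ok w2) (Net.fn_lt z.ok w2) q, Nat.beq_refl] at w3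
    exact absurd w3 (by simp)
  have h' : ActsL n e (a :: gs.map Subtype.val) (A :: Ns) := .cons u h.coe
  have le : ∀ x : H, (x : G) ∈ cl (a :: gs.map Subtype.val) := fun x =>
    cl_le (gs := gs.map Subtype.val) (fun g hg => mem_cl (List.mem_cons_of_mem _ hg)) (cl_coe gs ▸ ⟨x, hg ▸ trivial, rfl⟩)
  have c := v.coe.cent he hn (fun _ hg _ hi => h'.closed hg hi) (fun g _ => hf g) (B := p :: B) (fun g hg hi => by
      rcases ext_two ha a2 (fun g hg => by
        rcases List.mem_cons.1 hg with r | r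
        · exact .inr r
        · obtain ⟨z, -, rfl⟩ := List.mem_map.1 r; exact .inl z.2) g hg with r | r
      · exact congrArg Subtype.val (hB ⟨g, r⟩ trivial fun i j => hi i (List.mem_cons_of_mem _ j))
      · exact (nf ⟨_, r⟩ (by simpa using hi)).elim)
    (h'.rinv he hR) (le y) (List.rel_append b.coe (.cons u .nil)) (by
      intro c hc
      rcases List.mem_append.1 hc with w | w
      · obtain ⟨z, -, rfl⟩ := List.mem_map.1 w; exact le z
      · rw [List.mem_singleton.1 w]; exact mem_cl List.mem_cons_self) Ts S hc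
  have key := ext_two (cjRel_of_gens (ActsL.cjW hf u b.coe b.coe (fun _ => mem_cl) W hc')) a2
    (l := cs.map Subtype.val ++ [a]) fun g hg => (List.mem_append.1 hg).imp mem_cl List.mem_singleton.1
  intro x hx
  rcases key x (c.le ⟨le x, Subgroup.mem_centralizer_singleton_iff.2 (congrArg Subtype.val hx)⟩) with r | r <;>
    rw [cl_coe] at r <;> obtain ⟨t, ht, r⟩ := r
  · rwa [← Subtype.ext r]
  · have : a = (t⁻¹ * x : H) := by simp [show (t : G) = _ from r]
    exact (nf (t⁻¹ * x)⁻¹ fun i _ => by rw [this, Subgroup.coe_inv, inv_mul_cancel, one_smul]).elim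
theorem allL_of {α : Type} {p : α → Bool} {a : α} {l : List α} (h : p a = true) (h' : allL l p = true) :
    allL (a :: l) p = true := and'_of h h'

end
end H27
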