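import Cfsg.Agent.H27.Out2
/-! Outer automorphism groups: relations refuted at single points. -/
namespace H27
noncomputable section
open MulAction

variable {G Ω : Type*} [Group G] [MulAction G Ω]

def relNe (A B C : List Net) (r : List Nat × Nat) : Bool := anyN 2 fun i =>
  not' (Nat.beq (Nat.rec (motive := fun _ => Nat) i (fun _ ih => force ih (fnL (flatL [A, B, C] r.1))) r.2) i)
theorem relNe_ne {n : Nat} {e : Nat → Ω} (he : Set.InjOn e {j | j < n})
    (hn : 2 ≤ n) {as bs cs : List G} {A B C : List Net} (a : ActsL n e as A) (b : ActsL n e bs B) (c : ActsL n e cs C)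
    {r : List Nat × Nat} (h : relNe A B C r = true) :
      (r.1.map fun i => [as.prod, bs.prod, cs.prod].getD i 1).prod ^ r.2 ≠ 1 := by
  obtain ⟨gs, u, v⟩ := exists_flatL (n := n) (e := e) (Ls := [A, B, C])
    (f := fun i => [as.prod, bs.prod, cs.prod].getD i 1) (fun i => by
      rcases i with _ | _ | _ | i
      exacts [⟨_, a, rfl⟩, ⟨_, b, rfl⟩, ⟨_, c, rfl⟩, ⟨[], .nil, rfl⟩]) r.1
  simp only [relNe, anyN_iff, not'_eq, Bool.not_eq_true', force_eq] at h
  obtain ⟨i, hi, h⟩ := h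
  have k : ∀ m : Nat, Nat.rec (motive := fun _ => Nat) i (fun _ ih => fnL (flatL [A, B, C] r.1) ih) m < n ∧
      gs.prod ^ m • e i = e (Nat.rec (motive := fun _ => Nat) i (fun _ ih => fnL (flatL [A, B, C] r.1) ih) m) := fun m => by
    induction m with
    | zero => exact ⟨hi.trans_le hn, by simp⟩
    | succ m ih => exact ⟨fnL_lt (fun _ h => u.ok h) ih.1, by rw [pow_succ', mul_smul, ih.2, u.prod_act ih.1]⟩
  intro z
  have := (k r.2).2
  rw [v, z, one_smul] at this
  rw [← he (hi.trans_le hn) (k r.2).1 this, Nat.beq_refl] at h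
  cases h

def outChk2 (K n : Nat) (C : PcCert) (Cs : List Net) (Y H T Y' T' : Net) (ms : List (Nat × Net))
    (rs : List (List Nat × Nat)) : Bool :=
  and' (and' (allL rs (relOk K n [Y] [H] [T])) (allL ms fun m => and' (m.2.valid n) (eqL K n (powL [Y] m.1) [m.2])))
    (pcEnum C (fun _ W => and' (not' (and' (eqL K n (appendL W [Y]) (Y' :: W)) (eqL K n (appendL W [T]) (T' :: W))))
      (allL ms fun m => or' (anyL rs (relNe [m.2] [H] (T :: W))) (or' (and' (eqL K n [m.2] [Y]) (eqL K n (T :: W) [T]))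
        (and' (eqL K n [m.2] [Y']) (eqL K n (T :: W) [T']))))) Cs 0 [])

theorem out_two2 [Finite G] {K n : Nat} {e : Nat → Ω} (hf : ∀ g : G, (∀ i < n, g • e i = e i) → g = 1)
    (he : Set.InjOn e {j | j < n}) (hn : n ≤ 2 ^ K) (h2n : 2 ≤ n) {y h t : G} (α : MulAut G) {Y H T Y' T' : Net} (aY : Acts n e y Y)
    (aH : Acts n e h H) (aT : Acts n e t T) (aY' : Acts n e (α y) Y') (aT' : Acts n e (α t) T') (hα : α h = h)
    {r a b : Nat} (hr : r.Prime) (hy : orderOf y = r) (h2 : ¬ r ^ 2 ∣ Nat.card G)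
    (hC : ∀ x, x * y = y * x → x ∈ Subgroup.zpowers y) (ha : a % r ≠ 1)
    (hab : and' (eqL K n [H, Y] (appendL (powL [Y] a) [H])) (eqL K n [T, H] (appendL (powL [H] b) [T])) = true)
    (hgen : cl [y, t] = ⊤) {cs : List G} {Cs : List Net} (c : ActsL n e cs Cs) (hC' : ∀ x, x * h = h * x → x ∈ cl cs)
    (C : PcCert) (ms : List (Nat × Net)) (rs : List (List Nat × Nat))
    (hm : ∀ m < r, m ≠ 0 → ∃ k < r, m * a ^ k % r ∈ ms.map Prod.fst)
    (hc : and' (pcChk K n C Cs) (outChk2 K n C Cs Y H T Y' T' ms rs) = true) : Nat.card (Cfsg.Out G) = 2 := by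
  simp only [outChk2, and'_eq, Bool.and_eq_true, allL_iff] at hc hab
  obtain ⟨c0, ⟨c1, c2⟩, c3⟩ := hc
  have s : ∀ {g : G} {N : Net}, Acts n e g N → ActsL n e [g] [N] := fun a => .cons a .nil
  have cj : ∀ {u v : G} {U V : Net} {k : Nat}, Acts n e u U → Acts n e v V →
      eqL K n [U, V] (appendL (powL [V] k) [U]) = true → u * v * u⁻¹ = v ^ k := by
    intro u v U V k p q w
    obtain ⟨ks, i, j⟩ := (s q).powL k
    rw [appendL_eq] at w
    have := ActsL.eq_of_eqL hf (gs := [u, v]) (.cons p (s q)) (List.rel_append i (s p)) w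
    rw [List.prod_append, j] at this
    rw [mul_inv_eq_iff_eq_mul]; simpa using this
  have hg := cj aH aY hab.1
  have ht := cj aT aH hab.2
  have en := fun x hx => c.pc_forall hf c0 c3 (hC' x hx)
  have gen : Subgroup.closure {y, t} = ⊤ := by rw [← hgen, cl]; congr 1; ext; simp
  refine H29.out_two_of_cases (α := α) gen ?_ fun φ => ?_
  · rintro ⟨x, rfl⟩
    obtain ⟨j, vs, Vs, u, rfl, v⟩ := en x (mul_inv_eq_iff_eq_mul.1 hα)
    simp only [and'_eq, Bool.and_eq_true, not'_eq, appendL_eq] at v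
    rw [ActsL.eqL_of_eq he hn (List.rel_append u (s aY)) (.cons aY' u) (by simp),
      ActsL.eqL_of_eq he hn (List.rel_append u (s aT)) (.cons aT' u) (by simp)] at v
    simp at v
  obtain ⟨x, m, hm1, h3, h4⟩ := H29.aut_normalise hr hy h2 hC hg ha φ
  obtain ⟨k, -, hk⟩ := hm m hm1 (by
    rintro rfl
    rw [pow_zero, map_eq_one_iff _ (MulAut.conj x * φ).injective] at h3
    rw [h3, orderOf_one] at hy
    exact hr.one_lt.ne hy)
  obtain ⟨mN, hmN, hk⟩ := List.mem_map.1 hk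
  set ψ := MulAut.conj (h ^ k * x) * φ with hψ
  have p0 : ∀ z, ψ z = h ^ k * (MulAut.conj x * φ) z * (h ^ k)⁻¹ := fun z => by
    simp only [hψ, MulAut.mul_apply, MulAut.conj_apply]; group
  have p1 : ψ y = y ^ mN.1 := by
    have : ∀ k, h ^ k * y * (h ^ k)⁻¹ = y ^ a ^ k := fun k => by
      induction k with
      | zero => simp
      | succ k ih => rw [pow_succ' h, pow_succ' a, pow_mul, ← hg, conj_pow, ← ih]; group
    rw [p0, h3, ← conj_pow, this, ← pow_mul, hk, ← hy, pow_mod_orderOf, mul_comm]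
  have p2 : ψ h = h := by rw [p0, h4]; group
  have p3 : ψ t * h * (ψ t)⁻¹ = h ^ b := by simpa only [map_mul, map_pow, map_inv, p2] using congrArg ψ ht
  obtain ⟨j, vs, Vs, u, q, v⟩ := en (t⁻¹ * ψ t) (by
    rw [← ht] at p3
    calc t⁻¹ * ψ t * h = t⁻¹ * (ψ t * h * (ψ t)⁻¹) * ψ t := by group
      _ = h * (t⁻¹ * ψ t) := by rw [p3]; group)
  have aM : Acts n e (ψ y) mN.2 := by
    obtain ⟨ks, i, j⟩ := (s aY).powL mN.1
    exact (i.prod_acts (c2 _ hmN).1 (c2 _ hmN).2).of_eq (by rw [j, p1]; simp)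
  have u' : ActsL n e (t :: vs) (T :: Vs) := .cons aT u
  have q' : (t :: vs).prod = ψ t := by rw [List.prod_cons, q]; simp
  have fin : ∀ {z w : G}, ψ z = w → φ z = (h ^ k * x)⁻¹ * w * (h ^ k * x)⁻¹⁻¹ := by
    rintro z _ rfl; simp only [hψ, MulAut.mul_apply, MulAut.conj_apply]; group
  simp only [and'_eq, or'_eq, Bool.and_eq_true, Bool.or_eq_true, allL_iff, not'_eq, Bool.not_eq_true'] at v
  rcases v.2 mN hmN with w | w | w
  rotate_left
  · exact ⟨_, .inl ⟨fin (by simpa using ActsL.eq_of_eqL hf (s aM) (s aY) w.1),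
      fin (by simpa [q'] using ActsL.eq_of_eqL hf u' (s aT) w.2)⟩⟩
  · exact ⟨_, .inr ⟨fin (by simpa using ActsL.eq_of_eqL hf (s aM) (s aY') w.1),
      fin (by simpa [q'] using ActsL.eq_of_eqL hf u' (s aT') w.2)⟩⟩
  · obtain ⟨ρ, hρ, w⟩ := (anyL_iff _ _).1 w
    have z := congrArg ψ ((relOk_iff hf he hn (s aY) (s aH) (s aT) ρ).1 (c1 ρ hρ))
    rw [map_one, map_pow, map_list_prod, List.map_map] at z
    refine (relNe_ne he h2n (s aM) (s aH) u' w ?_).elim
    rw [q', (funext fun i => by rcases i with _ | _ | _ | i <;> simp [p2] :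
      (fun i => [[ψ y].prod, [h].prod, ψ t].getD i 1) = ψ ∘ fun i => [[y].prod, [h].prod, [t].prod].getD i 1)]
    exact z

end
end H27
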